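import Cfsg.Agent.Lib.FiniteForms.Congr
import Mathlib.LinearAlgebra.FiniteDimensional.Lemmas

/-!
Witt decomposition of nonsingular quadratic spaces over finite fields, in all characteristics.
-/

set_option autoImplicit false

namespace CfsgLib.FiniteForms

open QuadraticMap

universe u

variable {F : Type*} [Field F] {V : Type u} [AddCommGroup V] [Module F V]

/-- Nondegeneracy of the polar form, as a plain condition. -/
def PolarNondeg (Q : QuadraticForm F V) : Prop := ∀ x, (∀ y, polar Q x y = 0) → x = 0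

/-- `k` mutually orthogonal hyperbolic pairs. -/
structure HypFam (Q : QuadraticForm F V) {k : ℕ} (e f : Fin k → V) : Prop where
  qe : ∀ i, Q (e i) = 0
  qf : ∀ i, Q (f i) = 0
  ef : ∀ i j, polar Q (e i) (f j) = if i = j then 1 else 0
  ee : ∀ i j, polar Q (e i) (e j) = 0
  ff : ∀ i j, polar Q (f i) (f j) = 0

variable [FiniteDimensional F V]

theorem exists_ne_zero_of_kernels {k : ℕ} (φ : Fin k → (V →ₗ[F] F))
    (hk : k < Module.finrank F V) : ∃ x : V, x ≠ 0 ∧ ∀ i, φ i x = 0 := by
  have h := LinearMap.finrank_range_add_finrank_ker (LinearMap.pi φ)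
  have h2 := Submodule.finrank_le (LinearMap.range (LinearMap.pi φ))
  rw [Module.finrank_fin_fun] at h2
  have hne : LinearMap.ker (LinearMap.pi φ) ≠ ⊥ := fun hb => by
    rw [hb, finrank_bot] at h
    omega
  obtain ⟨x, hx, hx0⟩ := (Submodule.ne_bot_iff _).mp hne
  exact ⟨x, hx0, fun i => congrFun (LinearMap.mem_ker.mp hx) i⟩

theorem sqrt_charTwo [Finite F] (h2 : (2 : F) = 0) (a : F) : ∃ t : F, a = t * t := by
  haveI : CharP F 2 := CharTwo.of_one_ne_zero_of_two_eq_zero one_ne_zero h2
  exact FiniteField.isSquare_of_char_two (ringChar.eq F 2) a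

/-- In dimension at least three there is a singular vector. -/
theorem exists_singular [Finite F] (Q : QuadraticForm F V) (hd : 3 ≤ Module.finrank F V) :
    ∃ x : V, x ≠ 0 ∧ Q x = 0 := by
  classical
  by_contra hc
  push Not at hc
  haveI : Nontrivial V := Module.nontrivial_of_finrank_pos (R := F) (by omega)
  obtain ⟨v, hv⟩ := exists_ne (0 : V)
  have hQv := hc v hv
  by_cases h2 : (2 : F) = 0
  · obtain ⟨φ, hφ⟩ := Module.Projective.exists_dual_eq_one F hv
    obtain ⟨x, hx, hxk⟩ := exists_ne_zero_of_kernels ![polarBilin Q v, φ] (by omega)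
    have h1 : polar Q v x = 0 := hxk 0
    have hφx : φ x = 0 := hxk 1
    obtain ⟨a, ha⟩ := sqrt_charTwo h2 (-(Q x) / Q v)
    have e : Q (a • v + x) = 0 := by
      rw [QuadraticMap.map_add ⇑Q, QuadraticMap.map_smul, polar_smul_left, h1, smul_zero,
        add_zero, smul_eq_mul, ← ha, div_mul_cancel₀ _ hQv, neg_add_cancel]
    refine hc _ (fun h0 => ?_) e
    have ha0 := congrArg φ h0
    rw [map_add, map_smul, hφ, hφx, add_zero, smul_eq_mul, mul_one, map_zero] at ha0
    rw [ha0, zero_smul, zero_add] at h0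
    exact hx h0
  · obtain ⟨w, hw, hwk⟩ := exists_ne_zero_of_kernels ![polarBilin Q v] (by omega)
    have hvw : polar Q v w = 0 := hwk 0
    obtain ⟨z, hz, hzk⟩ := exists_ne_zero_of_kernels ![polarBilin Q v, polarBilin Q w] (by omega)
    have hvz : polar Q v z = 0 := hzk 0
    have hwz : polar Q w z = 0 := hzk 1
    have hQz := hc z hz
    have hQw := hc w hw
    obtain ⟨x, y, hxy⟩ := exists_rep_one h2 (a := Q v / -Q z) (b := Q w / -Q z)
      (div_ne_zero hQv (neg_ne_zero.mpr hQz)) (div_ne_zero hQw (neg_ne_zero.mpr hQz))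
    have e : Q (x • v + y • w + z) = 0 := by
      rw [QuadraticMap.map_add ⇑Q, QuadraticMap.map_add ⇑Q, QuadraticMap.map_smul,
        QuadraticMap.map_smul, polar_smul_left, polar_smul_right, hvw, polar_add_left,
        polar_smul_left, polar_smul_left, hvz, hwz]
      simp only [smul_eq_mul, smul_zero, add_zero]
      rw [div_mul_eq_mul_div, div_mul_eq_mul_div, ← add_div,
        div_eq_iff (neg_ne_zero.mpr hQz)] at hxy
      linear_combination hxy
    refine hc _ (fun h0 => ?_) e
    have hp := congrArg (fun u => polar Q u z) h0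
    simp only [polar_add_left, polar_smul_left, hvz, hwz, smul_zero, zero_add, polar_self,
      polar_zero_left] at hp
    rw [nsmul_eq_mul, mul_eq_zero] at hp
    exact hQz (hp.resolve_left (by exact_mod_cast h2))

/-- A nonzero singular vector extends to a hyperbolic pair. -/
theorem exists_partner {Q : QuadraticForm F V} (hQ : PolarNondeg Q) {e : V} (he : e ≠ 0)
    (hqe : Q e = 0) : ∃ f : V, polar Q e f = 1 ∧ Q f = 0 := by
  obtain ⟨y, hy⟩ : ∃ y, polar Q e y ≠ 0 := by
    by_contra h
    push Not at h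
    exact he (hQ e h)
  have hee : polar Q e e = 0 := by rw [polar_self, hqe, nsmul_zero]
  set g := (polar Q e y)⁻¹ • y with hg
  have heg : polar Q e g = 1 := by rw [hg, polar_smul_right, smul_eq_mul, inv_mul_cancel₀ hy]
  clear_value g
  refine ⟨g + (-Q g) • e, ?_, ?_⟩
  · rw [polar_add_right, polar_smul_right, hee, smul_zero, add_zero, heg]
  · rw [QuadraticMap.map_add ⇑Q, QuadraticMap.map_smul, hqe, smul_zero, add_zero,
      polar_smul_right, polar_comm ⇑Q g e, heg, smul_eq_mul, mul_one, add_neg_cancel]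

/-- The common orthogonal space of a hyperbolic family. -/
def famPerp (Q : QuadraticForm F V) {k : ℕ} (e f : Fin k → V) : Submodule F V :=
  (⨅ i, LinearMap.ker (polarBilin Q (e i))) ⊓ ⨅ i, LinearMap.ker (polarBilin Q (f i))

omit [FiniteDimensional F V] in
theorem mem_famPerp {Q : QuadraticForm F V} {k : ℕ} {e f : Fin k → V} {x : V} :
    x ∈ famPerp Q e f ↔ (∀ i, polar Q (e i) x = 0) ∧ ∀ i, polar Q (f i) x = 0 := by
  simp [famPerp, Submodule.mem_iInf]

/-- Nonsingular spaces contain hyperbolic pairs down to dimension two. -/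
theorem exists_hypFam [Finite F] : ∀ (k : ℕ) (V : Type u) [AddCommGroup V] [Module F V]
    [FiniteDimensional F V] (Q : QuadraticForm F V), PolarNondeg Q →
    2 * k + 1 ≤ Module.finrank F V → ∃ e f : Fin k → V, HypFam Q e f := by
  intro k
  induction k with
  | zero =>
    intro V _ _ _ Q _ _
    exact ⟨Fin.elim0, Fin.elim0, ⟨fun i => i.elim0, fun i => i.elim0, fun i => i.elim0,
      fun i => i.elim0, fun i => i.elim0⟩⟩
  | succ k ih =>
    intro V _ _ _ Q hQ hd
    obtain ⟨e₀, he₀, hqe₀⟩ := exists_singular Q (by omega)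
    obtain ⟨f₀, hef₀, hqf₀⟩ := exists_partner hQ he₀ hqe₀
    have hee : polar Q e₀ e₀ = 0 := by rw [polar_self, hqe₀, nsmul_zero]
    have hff : polar Q f₀ f₀ = 0 := by rw [polar_self, hqf₀, nsmul_zero]
    have hfe : polar Q f₀ e₀ = 1 := by rw [polar_comm ⇑Q, hef₀]
    let φ : V →ₗ[F] (Fin 2 → F) := LinearMap.pi ![polarBilin Q e₀, polarBilin Q f₀]
    let W := LinearMap.ker φ
    have hW : ∀ x, x ∈ W ↔ polar Q e₀ x = 0 ∧ polar Q f₀ x = 0 := fun x => by
      constructor
      · intro h
        exact ⟨congrFun (LinearMap.mem_ker.mp h) 0, congrFun (LinearMap.mem_ker.mp h) 1⟩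
      · rintro ⟨h1, h2⟩
        refine LinearMap.mem_ker.mpr (funext fun j => ?_)
        fin_cases j
        · exact h1
        · exact h2
    have hdW : Module.finrank F W + 2 = Module.finrank F V := by
      have h := LinearMap.finrank_range_add_finrank_ker φ
      rw [LinearMap.range_eq_top.mpr (fun c => ⟨c 0 • f₀ + c 1 • e₀, funext fun j => by
        fin_cases j <;> simp [φ, hef₀, hee, hff, hfe, polar_add_right, polar_smul_right]⟩),
        finrank_top, Module.finrank_fin_fun] at h
      show Module.finrank F (LinearMap.ker φ) + 2 = _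
      omega
    have hnd : PolarNondeg (Q.comp W.subtype) := by
      intro x hx
      obtain ⟨h1, h2⟩ := (hW x.1).mp x.2
      refine Subtype.ext (hQ x.1 fun y => ?_)
      set w := y - polar Q f₀ y • e₀ - polar Q e₀ y • f₀ with hw
      have hwW : w ∈ W := (hW w).mpr ⟨by
        simp [hw, polar_sub_right, polar_smul_right, hee, hef₀], by
        simp [hw, polar_sub_right, polar_smul_right, hff, hfe]⟩
      have e1 : polar Q x.1 w = 0 := hx ⟨w, hwW⟩
      rw [show y = w + polar Q f₀ y • e₀ + polar Q e₀ y • f₀ by rw [hw]; abel, polar_add_right,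
        polar_add_right, polar_smul_right, polar_smul_right, polar_comm ⇑Q x.1 e₀,
        polar_comm ⇑Q x.1 f₀, h1, h2, e1, smul_zero, smul_zero, add_zero, add_zero]
    obtain ⟨e, f, h⟩ := ih W (Q.comp W.subtype) hnd (by omega)
    have hmem : ∀ i, (polar Q e₀ (e i : V) = 0 ∧ polar Q f₀ (e i : V) = 0) ∧
        (polar Q e₀ (f i : V) = 0 ∧ polar Q f₀ (f i : V) = 0) := fun i =>
      ⟨(hW _).mp (e i).2, (hW _).mp (f i).2⟩
    have hmem' : ∀ i, (polar Q (e i : V) e₀ = 0 ∧ polar Q (e i : V) f₀ = 0) ∧
        (polar Q (f i : V) e₀ = 0 ∧ polar Q (f i : V) f₀ = 0) := fun i =>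
      ⟨⟨(polar_comm ⇑Q _ _).trans (hmem i).1.1, (polar_comm ⇑Q _ _).trans (hmem i).1.2⟩,
        ⟨(polar_comm ⇑Q _ _).trans (hmem i).2.1, (polar_comm ⇑Q _ _).trans (hmem i).2.2⟩⟩
    refine ⟨Fin.cons e₀ fun i => (e i : V), Fin.cons f₀ fun i => (f i : V), ?_, ?_, ?_, ?_, ?_⟩
    · refine Fin.cases ?_ fun i => ?_
      · simpa using hqe₀
      · simpa using h.qe i
    · refine Fin.cases ?_ fun i => ?_
      · simpa using hqf₀
      · simpa using h.qf i
    · refine Fin.cases (Fin.cases ?_ fun j => ?_) fun i => Fin.cases ?_ fun j => ?_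
      · simpa using hef₀
      · simpa [(Fin.succ_ne_zero j).symm] using (hmem j).2.1
      · simpa [Fin.succ_ne_zero i] using (hmem' i).1.2
      · simp only [Fin.cons_succ, Fin.succ_inj]
        exact h.ef i j
    · refine Fin.cases (Fin.cases ?_ fun j => ?_) fun i => Fin.cases ?_ fun j => ?_
      · simpa using hee
      · simpa using (hmem j).1.1
      · simpa using (hmem' i).1.1
      · simp only [Fin.cons_succ]
        exact h.ee i j
    · refine Fin.cases (Fin.cases ?_ fun j => ?_) fun i => Fin.cases ?_ fun j => ?_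
      · simpa using hff
      · simpa using (hmem j).2.2
      · simpa using (hmem' i).2.2
      · simp only [Fin.cons_succ]
        exact h.ff i j

variable {Q : QuadraticForm F V} {k : ℕ} {e f : Fin k → V}

omit [FiniteDimensional F V] in
theorem HypFam.polar_comb (h : HypFam Q e f) (a b : Fin k → F) (j : Fin k) :
    polar Q (e j) (∑ i, a i • e i + ∑ i, b i • f i) = b j ∧
      polar Q (f j) (∑ i, a i • e i + ∑ i, b i • f i) = a j := by
  have hfe : ∀ i, polar Q (f j) (e i) = if i = j then 1 else 0 := fun i => by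
    rw [polar_comm ⇑Q, h.ef]
  constructor
  · show polarBilin Q (e j) _ = b j
    simp [map_add, map_sum, polarBilin_apply_apply, h.ee, h.ef]
  · show polarBilin Q (f j) _ = a j
    simp [map_add, map_sum, polarBilin_apply_apply, h.ff, hfe]

theorem HypFam.finrank_famPerp (h : HypFam Q e f) :
    Module.finrank F (famPerp Q e f) + 2 * k = Module.finrank F V := by
  let φ : V →ₗ[F] (Fin k → F) × (Fin k → F) :=
    (LinearMap.pi fun i => polarBilin Q (e i)).prod (LinearMap.pi fun i => polarBilin Q (f i))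
  have hker : LinearMap.ker φ = famPerp Q e f := by
    ext x
    simp [φ, mem_famPerp, LinearMap.mem_ker, funext_iff]
  have hs : Function.Surjective φ := by
    rintro ⟨b, a⟩
    refine ⟨∑ i, a i • e i + ∑ i, b i • f i, ?_⟩
    exact Prod.ext (funext fun j => (h.polar_comb a b j).1)
      (funext fun j => (h.polar_comb a b j).2)
  have hk := LinearMap.finrank_range_add_finrank_ker φ
  rw [LinearMap.range_eq_top.mpr hs, finrank_top, Module.finrank_prod, Module.finrank_fin_fun,
    hker] at hk
  omega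

omit [FiniteDimensional F V] in
/-- The orthogonal space of a hyperbolic family in a nonsingular space is nonsingular. -/
theorem HypFam.famPerp_nondeg (h : HypFam Q e f) (hQ : PolarNondeg Q) {x : V}
    (hx : x ∈ famPerp Q e f) (hall : ∀ y ∈ famPerp Q e f, polar Q x y = 0) : x = 0 := by
  refine hQ x fun y => ?_
  set c := ∑ i, polar Q (f i) y • e i + ∑ i, polar Q (e i) y • f i with hc
  have hy : y - c ∈ famPerp Q e f := by
    rw [mem_famPerp]
    constructor <;> intro i
    · rw [polar_sub_right, hc, (h.polar_comb _ _ i).1, sub_self]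
    · rw [polar_sub_right, hc, (h.polar_comb _ _ i).2, sub_self]
  obtain ⟨hxe, hxf⟩ := mem_famPerp.mp hx
  have e1 : polar Q x c = 0 := by
    show polarBilin Q x c = 0
    simp [hc, map_add, map_sum, polarBilin_apply_apply, polar_comm ⇑Q x, hxe, hxf]
  have e2 := hall _ hy
  rw [polar_sub_right, e1, sub_zero] at e2
  exact e2

omit [FiniteDimensional F V] in
theorem HypFam.linearIndependent (h : HypFam Q e f) : LinearIndependent F (Sum.elim e f) := by
  rw [Fintype.linearIndependent_iff]
  intro g hg i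
  rw [Fintype.sum_sum_type] at hg
  simp only [Sum.elim_inl, Sum.elim_inr] at hg
  rcases i with i | i
  · have := (h.polar_comb (g ∘ Sum.inl) (g ∘ Sum.inr) i).2
    simp only [Function.comp_apply] at this
    rw [hg] at this
    simpa using this.symm
  · have := (h.polar_comb (g ∘ Sum.inl) (g ∘ Sum.inr) i).1
    simp only [Function.comp_apply] at this
    rw [hg] at this
    simpa using this.symm

omit [FiniteDimensional F V] in
/-- Adjoining a family from the orthogonal space keeps independence. -/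
theorem HypFam.linearIndependent_sum (h : HypFam Q e f) {ι : Type*} [Fintype ι] {w : ι → V}
    (hw : ∀ i, w i ∈ famPerp Q e f) (hli : LinearIndependent F w) :
    LinearIndependent F (Sum.elim (Sum.elim e f) w) := by
  refine h.linearIndependent.sum_type hli ?_
  rw [Submodule.disjoint_def]
  intro x hx hxw
  have hxP : x ∈ famPerp Q e f :=
    Submodule.span_le.mpr (Set.range_subset_iff.mpr hw) hxw
  rw [Set.Sum.elim_range, Submodule.span_union, Submodule.mem_sup] at hx
  obtain ⟨u, hu, v, hv, rfl⟩ := hx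
  obtain ⟨a, rfl⟩ := (Submodule.mem_span_range_iff_exists_fun F).mp hu
  obtain ⟨b, rfl⟩ := (Submodule.mem_span_range_iff_exists_fun F).mp hv
  obtain ⟨h1, h2⟩ := mem_famPerp.mp hxP
  have ha : a = 0 := funext fun j => ((h.polar_comb a b j).2.symm.trans (h2 j))
  have hb : b = 0 := funext fun j => ((h.polar_comb a b j).1.symm.trans (h1 j))
  simp [ha, hb]

/-- An anisotropic plane has an elliptic basis. -/
theorem exists_elliptic_basis [Finite F] {P : Submodule F V} (hd : Module.finrank F P = 2)
    (hnd : ∀ x ∈ P, (∀ y ∈ P, polar Q x y = 0) → x = 0)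
    (ha : ∀ x ∈ P, Q x = 0 → x = 0) :
    ∃ x y : V, x ∈ P ∧ y ∈ P ∧ Q x = 1 ∧ polar Q x y = 1 ∧
      (∀ t : F, t ^ 2 + t + Q y ≠ 0) ∧ LinearIndependent F ![x, y] := by
  haveI : Nontrivial P := Module.nontrivial_of_finrank_pos (R := F) (by omega)
  obtain ⟨v₀, hv₀⟩ := exists_ne (0 : P)
  have hv0 : (v₀ : V) ≠ 0 := fun h0 => hv₀ (Subtype.ext h0)
  have hQv : Q (v₀ : V) ≠ 0 := fun h0 => hv0 (ha _ v₀.2 h0)
  -- a vector of value one
  obtain ⟨x, hxP, hx⟩ : ∃ x ∈ P, Q x = 1 := by
    by_cases h2 : (2 : F) = 0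
    · obtain ⟨t, ht⟩ := sqrt_charTwo h2 (Q (v₀ : V))⁻¹
      exact ⟨t • (v₀ : V), P.smul_mem t v₀.2, by
        rw [QuadraticMap.map_smul, smul_eq_mul, ← ht, inv_mul_cancel₀ hQv]⟩
    · obtain ⟨z, hz, hzk⟩ := exists_ne_zero_of_kernels
        ![(polarBilin Q (v₀ : V)).comp P.subtype] (by omega)
      have hvz : polar Q (v₀ : V) (z : V) = 0 := hzk 0
      have hQz : Q (z : V) ≠ 0 := fun h0 => hz (Subtype.ext (ha _ z.2 h0))
      obtain ⟨a, b, hab⟩ := exists_rep_one h2 hQv hQz
      exact ⟨a • (v₀ : V) + b • (z : V), P.add_mem (P.smul_mem a v₀.2) (P.smul_mem b z.2), by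
        rw [QuadraticMap.map_add ⇑Q, QuadraticMap.map_smul, QuadraticMap.map_smul, polar_smul_left,
          polar_smul_right, hvz]
        simp only [smul_eq_mul, mul_zero, add_zero]
        linear_combination hab⟩
  have hx0 : x ≠ 0 := fun h0 => by rw [h0, QuadraticMap.map_zero] at hx; exact zero_ne_one hx
  -- its partner
  obtain ⟨y, hyP, hxy, hind⟩ : ∃ y ∈ P, polar Q x y = 1 ∧ ∀ c : F, y ≠ c • x := by
    have hxx : polar Q x x = 2 := by rw [polar_self, hx, nsmul_eq_mul, mul_one, Nat.cast_ofNat]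
    by_cases h2 : (2 : F) = 0
    · obtain ⟨y₀, hy₀, hne⟩ : ∃ y ∈ P, polar Q x y ≠ 0 := by
        by_contra h
        push Not at h
        exact hx0 (hnd x hxP h)
      refine ⟨(polar Q x y₀)⁻¹ • y₀, P.smul_mem _ hy₀, by
        rw [polar_smul_right, smul_eq_mul, inv_mul_cancel₀ hne], fun c hc => ?_⟩
      have := congrArg (polar Q x) hc
      rw [polar_smul_right, polar_smul_right, hxx, h2, smul_zero, smul_eq_mul,
        inv_mul_cancel₀ hne] at this
      exact one_ne_zero this
    · obtain ⟨z, hz, hzk⟩ := exists_ne_zero_of_kernels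
        ![(polarBilin Q x).comp P.subtype] (by omega)
      have hxz : polar Q x (z : V) = 0 := hzk 0
      refine ⟨(2 : F)⁻¹ • x + (z : V), P.add_mem (P.smul_mem _ hxP) z.2, by
        rw [polar_add_right, polar_smul_right, hxx, hxz, add_zero, smul_eq_mul,
          inv_mul_cancel₀ h2], fun c hc => hz (Subtype.ext ?_)⟩
      have hz' : (z : V) = (c - (2 : F)⁻¹) • x := by rw [sub_smul, ← hc]; abel
      have := congrArg (polar Q x) hz'
      rw [hxz, polar_smul_right, hxx, smul_eq_mul] at this
      rw [hz', (mul_eq_zero.mp this.symm).resolve_right h2, zero_smul]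
      rfl
  refine ⟨x, y, hxP, hyP, hx, hxy, fun t ht => ?_, ?_⟩
  · have e0 : Q (t • x + y) = 0 := by
      rw [QuadraticMap.map_add ⇑Q, QuadraticMap.map_smul, polar_smul_left, hx, hxy,
        smul_eq_mul, smul_eq_mul]
      linear_combination ht
    have := ha _ (P.add_mem (P.smul_mem t hxP) hyP) e0
    exact hind (-t) (by rw [neg_smul]; exact eq_neg_of_add_eq_zero_right this)
  · rw [LinearIndependent.pair_iff]
    intro a b hab
    rcases eq_or_ne b 0 with rfl | hb
    · rw [zero_smul, add_zero] at hab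
      exact ⟨(smul_eq_zero.mp hab).resolve_right hx0, rfl⟩
    · exfalso
      refine hind (-(a / b)) ?_
      have := congrArg (fun v => b⁻¹ • v) hab
      simp only [smul_add, smul_smul, smul_zero, inv_mul_cancel₀ hb, one_smul] at this
      rw [neg_smul, div_eq_inv_mul]
      exact eq_neg_of_add_eq_zero_right this

end CfsgLib.FiniteForms
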