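import Mathlib.LinearAlgebra.QuadraticForm.Basic
import Mathlib.LinearAlgebra.Matrix.BilinearForm
import Mathlib.LinearAlgebra.Matrix.ToLinearEquiv
import Mathlib.LinearAlgebra.Matrix.GeneralLinearGroup.Defs
import Mathlib.LinearAlgebra.Matrix.SchurComplement
import Mathlib.FieldTheory.Finite.Basic

/-!
Congruence of symmetric matrices over a finite field of odd order: the determinant up to squares
is a complete invariant.
-/

set_option autoImplicit false

namespace CfsgLib.FiniteForms

open Matrix

variable {F : Type*} [Field F] {ι : Type*} [Fintype ι] [DecidableEq ι]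

/-- Congruence of square matrices. -/
def Congr (G H : Matrix ι ι F) : Prop :=
  ∃ P : Matrix ι ι F, P.det ≠ 0 ∧ Pᵀ * G * P = H

theorem Congr.refl (G : Matrix ι ι F) : Congr G G :=
  ⟨1, by rw [det_one]; exact one_ne_zero,
    by rw [transpose_one, Matrix.one_mul, Matrix.mul_one]⟩

theorem Congr.trans {A B C : Matrix ι ι F} (h₁ : Congr A B) (h₂ : Congr B C) : Congr A C := by
  obtain ⟨P, hP, rfl⟩ := h₁
  obtain ⟨Q, hQ, rfl⟩ := h₂
  exact ⟨P * Q, by rw [det_mul]; exact mul_ne_zero hP hQ,
    by rw [transpose_mul]; simp only [Matrix.mul_assoc]⟩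

theorem Congr.symm {A B : Matrix ι ι F} (h : Congr A B) : Congr B A := by
  obtain ⟨P, hP, rfl⟩ := h
  have hu : IsUnit P.det := isUnit_iff_ne_zero.mpr hP
  refine ⟨P⁻¹, by rw [det_nonsing_inv, Ring.inverse_eq_inv']; exact inv_ne_zero hP, ?_⟩
  rw [transpose_nonsing_inv, Matrix.mul_assoc, Matrix.mul_assoc,
    Matrix.mul_nonsing_inv P hu, Matrix.mul_one, ← Matrix.mul_assoc,
    Matrix.nonsing_inv_mul Pᵀ (by rwa [det_transpose]), Matrix.one_mul]

theorem Congr.det_eq {A B : Matrix ι ι F} (h : Congr A B) :
    ∃ p : F, p ≠ 0 ∧ B.det = p * p * A.det := by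
  obtain ⟨P, hP, rfl⟩ := h
  exact ⟨P.det, hP, by rw [det_mul, det_mul, det_transpose]; ring⟩

theorem Congr.isSymm {A B : Matrix ι ι F} (h : Congr A B) (hA : A.IsSymm) : B.IsSymm := by
  obtain ⟨P, -, rfl⟩ := h
  unfold Matrix.IsSymm
  rw [transpose_mul, transpose_mul, transpose_transpose, hA.eq, Matrix.mul_assoc]

theorem toBilin'_symm_apply (G : Matrix ι ι F) (hG : G.IsSymm) (u v : ι → F) :
    u ⬝ᵥ (G *ᵥ v) = v ⬝ᵥ (G *ᵥ u) := by
  rw [dotProduct_mulVec, ← mulVec_transpose, hG.eq, dotProduct_comm]

theorem exists_diag [Invertible (2 : F)] (G : Matrix ι ι F) (hG : G.IsSymm) :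
    ∃ d : ι → F, Congr G (diagonal d) := by
  obtain ⟨v, hv⟩ := LinearMap.BilinForm.exists_orthogonal_basis (B := Matrix.toBilin' G)
    ⟨fun x y => by
      simp only [Matrix.toBilin'_apply', RingHom.id_apply]
      exact toBilin'_symm_apply G hG x y⟩
  let e : Fin (Module.finrank F (ι → F)) ≃ ι := v.indexEquiv (Pi.basisFun F ι)
  let w : Module.Basis ι F (ι → F) := v.reindex e
  let P : Matrix ι ι F := (Pi.basisFun F ι).toMatrix w
  have hP : P.det ≠ 0 := by
    have h1 : P * w.toMatrix (Pi.basisFun F ι) = 1 :=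
      Module.Basis.toMatrix_mul_toMatrix_flip _ _
    intro h0
    have := congrArg Matrix.det h1
    rw [det_mul, h0, zero_mul, det_one] at this
    exact zero_ne_one this
  refine ⟨fun i => w i ⬝ᵥ (G *ᵥ w i), P, hP, ?_⟩
  ext i j
  have hij : (Pᵀ * G * P) i j = w i ⬝ᵥ (G *ᵥ w j) := by
    rw [Matrix.mul_assoc]
    simp only [Matrix.mul_apply, Matrix.transpose_apply, dotProduct, Matrix.mulVec, P,
      Module.Basis.toMatrix_apply, Pi.basisFun_repr]
  rw [hij]
  rcases eq_or_ne i j with rfl | hne
  · rw [diagonal_apply_eq]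
  · rw [diagonal_apply_ne _ hne, ← Matrix.toBilin'_apply']
    simp only [w, Module.Basis.reindex_apply]
    exact hv (e.symm.injective.ne hne)

theorem diag_quad (d v : ι → F) : v ⬝ᵥ (diagonal d *ᵥ v) = ∑ k, d k * (v k * v k) :=
  Finset.sum_congr rfl fun k _ => by rw [mulVec_diagonal]; ring

theorem congr_of_quad (h2 : (2 : F) ≠ 0) {G H : Matrix ι ι F} (hG : G.IsSymm) (hH : H.IsSymm)
    (hdet : H.det ≠ 0) (P : Matrix ι ι F)
    (h : ∀ v, (P *ᵥ v) ⬝ᵥ (G *ᵥ (P *ᵥ v)) = v ⬝ᵥ (H *ᵥ v)) : Congr G H := by
  have hM : (Pᵀ * G * P).IsSymm := by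
    unfold Matrix.IsSymm
    rw [transpose_mul, transpose_mul, transpose_transpose, hG.eq, Matrix.mul_assoc]
  have hq : ∀ v, v ⬝ᵥ ((Pᵀ * G * P) *ᵥ v) = v ⬝ᵥ (H *ᵥ v) := fun v => by
    rw [← h v, Matrix.mul_assoc, ← mulVec_mulVec, ← mulVec_mulVec, dotProduct_mulVec,
      ← mulVec_transpose, transpose_transpose]
  have he : Pᵀ * G * P = H := by
    ext i j
    have key : ∀ M : Matrix ι ι F, M.IsSymm →
        (Pi.single i 1 + Pi.single j 1) ⬝ᵥ (M *ᵥ (Pi.single i 1 + Pi.single j 1)) =
          M i i + M j j + 2 * M i j := fun M hM' => by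
      simp only [mulVec_add, mulVec_single_one, dotProduct_add, add_dotProduct,
        single_one_dotProduct, Matrix.col_apply]
      rw [hM'.apply i j]
      ring
    have hd : ∀ k, (Pᵀ * G * P) k k = H k k := fun k => by
      have := hq (Pi.single k 1)
      simpa [single_one_dotProduct, mulVec_single_one] using this
    have := hq (Pi.single i 1 + Pi.single j 1)
    rw [key _ hM, key _ hH, hd, hd, add_right_inj] at this
    exact mul_left_cancel₀ h2 this
  refine ⟨P, fun h0 => hdet ?_, he⟩
  rw [← he, det_mul, h0, mul_zero]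

variable [Finite F]

/-- Over a finite field a binary diagonal form represents one. -/
theorem exists_rep_one (h2 : (2 : F) ≠ 0) {a b : F} (ha : a ≠ 0) (hb : b ≠ 0) :
    ∃ x y : F, a * (x * x) + b * (y * y) = 1 := by
  classical
  have := Fintype.ofFinite F
  have hodd : Fintype.card F % 2 = 1 :=
    FiniteField.odd_card_of_char_ne_two (fun hc => by
      haveI := ringChar.of_eq hc
      exact h2 (CharP.ofNat_eq_zero F 2))
  obtain ⟨x, y, h⟩ := FiniteField.exists_root_sum_quadratic
    (f := Polynomial.C a * Polynomial.X ^ 2 - Polynomial.C 1)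
    (g := Polynomial.C b * Polynomial.X ^ 2)
    (by rw [Polynomial.degree_sub_C] <;> rw [Polynomial.degree_C_mul_X_pow 2 ha] <;> decide)
    (Polynomial.degree_C_mul_X_pow 2 hb) hodd
  refine ⟨x, y, ?_⟩
  simp only [Polynomial.eval_sub, Polynomial.eval_mul, Polynomial.eval_C, Polynomial.eval_pow,
    Polynomial.eval_X] at h
  linear_combination h

/-- Moving the weight of one coordinate onto another. -/
theorem congr_diag_step (h2 : (2 : F) ≠ 0) (d : ι → F) (hd : ∀ k, d k ≠ 0) {i j : ι}
    (hij : i ≠ j) :
    Congr (diagonal d) (diagonal (Function.update (Function.update d i 1) j (d i * d j))) := by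
  obtain ⟨x, y, hxy⟩ := exists_rep_one h2 (hd i) (hd j)
  set d' := Function.update (Function.update d i 1) j (d i * d j)
  have hd'j : d' j = d i * d j := Function.update_self _ _ _
  have hd'i : d' i = 1 := by
    rw [show d' i = Function.update d i 1 i from Function.update_of_ne hij _ _,
      Function.update_self]
  have hd'k : ∀ k, k ≠ i → k ≠ j → d' k = d k := fun k hi hj => by
    rw [show d' k = Function.update d i 1 k from Function.update_of_ne hj _ _,
      Function.update_of_ne hi]
  let f : (ι → F) →ₗ[F] (ι → F) :=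
    { toFun := fun v k => if k = i then x * v i - d j * y * v j
        else if k = j then y * v i + d i * x * v j else v k
      map_add' := fun u v => funext fun k => by
        simp only [Pi.add_apply]
        split_ifs <;> ring
      map_smul' := fun c v => funext fun k => by
        simp only [Pi.smul_apply, RingHom.id_apply, smul_eq_mul]
        split_ifs <;> ring }
  have hdet : (diagonal d').det ≠ 0 := by
    rw [det_diagonal, Finset.prod_ne_zero_iff]
    intro k _
    rcases eq_or_ne k i with rfl | hi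
    · rw [hd'i]; exact one_ne_zero
    rcases eq_or_ne k j with rfl | hj
    · rw [hd'j]; exact mul_ne_zero (hd i) (hd k)
    · rw [hd'k k hi hj]; exact hd k
  refine congr_of_quad h2 (isSymm_diagonal d) (isSymm_diagonal d') hdet (LinearMap.toMatrix' f)
    fun v => ?_
  rw [LinearMap.toMatrix'_mulVec, diag_quad, diag_quad]
  have hs : ∀ g : ι → F, ∑ k, g k = g i + g j + ∑ k ∈ (Finset.univ.erase i).erase j, g k := by
    intro g
    rw [← Finset.add_sum_erase _ _ (Finset.mem_univ i), ← Finset.add_sum_erase _ _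
      (Finset.mem_erase.mpr ⟨hij.symm, Finset.mem_univ j⟩), add_assoc]
  rw [hs, hs]
  have hfi : f v i = x * v i - d j * y * v j := if_pos rfl
  have hfj : f v j = y * v i + d i * x * v j := (if_neg hij.symm).trans (if_pos rfl)
  have hrest : ∀ k ∈ (Finset.univ.erase i).erase j,
      d k * (f v k * f v k) = d' k * (v k * v k) := by
    intro k hk
    simp only [Finset.mem_erase] at hk
    rw [hd'k k hk.2.1 hk.1, show f v k = v k from (if_neg hk.2.1).trans (if_neg hk.1)]
  rw [Finset.sum_congr rfl hrest, hfi, hfj, hd'i, hd'j]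
  linear_combination (v i * v i + d i * d j * (v j * v j)) * hxy

/-- A nonsingular diagonal form is congruent to the one with all weights but one equal to one. -/
theorem congr_diag_single (h2 : (2 : F) ≠ 0) (d : ι → F) (hd : ∀ k, d k ≠ 0) (i : ι) :
    Congr (diagonal d) (diagonal (Function.update 1 i (∏ k, d k))) := by
  suffices h : ∀ s : Finset ι, i ∉ s → Congr (diagonal d)
      (diagonal fun k => if k ∈ s then 1 else if k = i then d i * ∏ l ∈ s, d l else d k) by
    convert h (Finset.univ.erase i) (Finset.notMem_erase _ _) using 2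
    funext k
    rcases eq_or_ne k i with rfl | hk
    · rw [Function.update_self, if_neg (Finset.notMem_erase _ _), if_pos rfl,
        Finset.mul_prod_erase _ _ (Finset.mem_univ _)]
    · rw [Function.update_of_ne hk, if_pos (Finset.mem_erase.mpr ⟨hk, Finset.mem_univ _⟩),
        Pi.one_apply]
  intro s
  induction s using Finset.induction_on with
  | empty =>
    intro _
    convert Congr.refl (diagonal d) using 2
    funext k
    rcases eq_or_ne k i with rfl | hk <;> simp [*]
  | insert a s ha ih =>
    intro hi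
    rw [Finset.mem_insert, not_or] at hi
    refine (ih hi.2).trans ?_
    set c := fun k => if k ∈ s then 1 else if k = i then d i * ∏ l ∈ s, d l else d k
    have hc : ∀ k, c k ≠ 0 := fun k => by
      simp only [c]
      split_ifs
      · exact one_ne_zero
      · exact mul_ne_zero (hd i) (Finset.prod_ne_zero_iff.mpr fun l _ => hd l)
      · exact hd k
    convert congr_diag_step h2 c hc (Ne.symm hi.1) using 2
    funext k
    rcases eq_or_ne k i with rfl | hk
    · rw [Function.update_self, if_neg (by simp [hi.1, hi.2]), if_pos rfl]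
      simp only [c, ha, hi.2, Ne.symm hi.1, if_false, if_true, Finset.prod_insert ha]
      ring
    rw [Function.update_of_ne hk]
    rcases eq_or_ne k a with rfl | hka
    · rw [Function.update_self, if_pos (Finset.mem_insert_self _ _)]
    · rw [Function.update_of_ne hka]
      simp [c, hk, hka]

/-- The determinant up to squares classifies nonsingular symmetric matrices. -/
theorem congr_iff (h2 : (2 : F) ≠ 0) {G H : Matrix ι ι F} (hG : G.IsSymm) (hH : H.IsSymm)
    (hG0 : G.det ≠ 0) (hH0 : H.det ≠ 0) : Congr G H ↔ IsSquare (G.det * H.det) := by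
  constructor
  · intro h
    obtain ⟨p, -, hp⟩ := h.det_eq
    exact ⟨p * G.det, by rw [hp]; ring⟩
  · intro hsq
    rcases isEmpty_or_nonempty ι with hι | ⟨⟨i⟩⟩
    · rw [show G = H from Matrix.ext fun a => isEmptyElim a]
      exact Congr.refl H
    haveI : Invertible (2 : F) := invertibleOfNonzero h2
    obtain ⟨d, hd⟩ := exists_diag G hG
    obtain ⟨e, he⟩ := exists_diag H hH
    obtain ⟨p, hp, hpd⟩ := hd.det_eq
    obtain ⟨r, hr, hre⟩ := he.det_eq
    rw [det_diagonal] at hpd hre
    have hd0 : ∀ k, d k ≠ 0 := fun k h0 => by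
      have : ∏ l, d l = 0 := Finset.prod_eq_zero (Finset.mem_univ k) h0
      rw [this] at hpd
      exact mul_ne_zero (mul_ne_zero hp hp) hG0 hpd.symm
    have he0 : ∀ k, e k ≠ 0 := fun k h0 => by
      have : ∏ l, e l = 0 := Finset.prod_eq_zero (Finset.mem_univ k) h0
      rw [this] at hre
      exact mul_ne_zero (mul_ne_zero hr hr) hH0 hre.symm
    obtain ⟨t, ht⟩ := hsq
    set s : F := p * r * t / ∏ k, d k
    have hDne : (∏ k, d k) ≠ 0 := Finset.prod_ne_zero_iff.mpr fun k _ => hd0 k
    have hEne : (∏ k, e k) ≠ 0 := Finset.prod_ne_zero_iff.mpr fun k _ => he0 k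
    have hs : ∏ k, e k = s * s * ∏ k, d k := by
      simp only [s]
      field_simp
      linear_combination (r * r * H.det) * hpd + (∏ k, d k) * hre + p * p * r * r * ht
    have hs0 : s ≠ 0 := fun h0 => hEne (by rw [hs, h0]; ring)
    refine (hd.trans (congr_diag_single h2 d hd0 i)).trans
      (Congr.trans ?_ (he.trans (congr_diag_single h2 e he0 i)).symm)
    refine ⟨diagonal (Function.update 1 i s), ?_, ?_⟩
    · rw [det_diagonal, Finset.prod_update_of_mem (Finset.mem_univ _)]
      simp [hs0]
    · rw [diagonal_transpose, diagonal_mul_diagonal, diagonal_mul_diagonal]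
      congr 1
      funext k
      rcases eq_or_ne k i with rfl | hk
      · simp only [Function.update_self, hs]; ring
      · simp [Function.update_of_ne hk]

end CfsgLib.FiniteForms
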