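import Cfsg.Agent.Lib.FiniteForms.Quad
import Cfsg.Prelude.Def_Classical

/-!
The standard hyperbolic and elliptic forms: polar matrices and discriminants.
-/

set_option autoImplicit false

namespace CfsgLib.FiniteForms

open Matrix

variable {F : Type*} [Field F]

/-- The hyperbolic matrix. -/
def hypMat (F : Type*) [Field F] (m : ℕ) : Matrix (Fin m ⊕ Fin m) (Fin m ⊕ Fin m) F :=
  Matrix.fromBlocks 0 1 1 0

theorem det_hypMat (m : ℕ) : (hypMat F m).det = (-1) ^ m := by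
  have h := congrArg Matrix.det (show (Matrix.fromBlocks (1 : Matrix (Fin m) (Fin m) F) 1 0 1) *
    hypMat F m = Matrix.fromBlocks 1 1 1 0 by simp [hypMat, Matrix.fromBlocks_multiply])
  rw [det_mul, det_fromBlocks_zero₂₁, det_one, one_mul, one_mul, det_fromBlocks_one₁₁,
    Matrix.one_mul, zero_sub, det_neg, det_one, mul_one, Fintype.card_fin] at h
  exact h

theorem hypMat_isSymm (m : ℕ) : (hypMat F m).IsSymm := by
  simp [Matrix.IsSymm, hypMat, Matrix.fromBlocks_transpose]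

theorem polar_plus (m : ℕ) (u v : Fin m ⊕ Fin m → F) :
    QuadraticMap.polar (Cfsg.quadFormPlus m F) u v = u ⬝ᵥ (hypMat F m *ᵥ v) := by
  have e : hypMat F m *ᵥ v = Sum.elim (v ∘ Sum.inr) (v ∘ Sum.inl) := by
    funext k
    rcases k with k | k <;> simp [hypMat, Matrix.mulVec, dotProduct, Matrix.one_apply]
  simp only [QuadraticMap.polar, Cfsg.quadFormPlus, e, dotProduct, Fintype.sum_sum_type,
    Pi.add_apply, Sum.elim_inl, Sum.elim_inr, Function.comp_apply, ← Finset.sum_sub_distrib,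
    ← Finset.sum_add_distrib]
  exact Finset.sum_congr rfl fun i _ => by ring

/-- The elliptic matrix. -/
def ellMat (m : ℕ) (a c : F) :
    Matrix ((Fin m ⊕ Fin m) ⊕ Fin 2) ((Fin m ⊕ Fin m) ⊕ Fin 2) F :=
  Matrix.fromBlocks (hypMat F m) 0 0 !![2, a; a, 2 * c]

theorem det_ellMat (m : ℕ) (a c : F) : (ellMat m a c).det = (-1) ^ m * (4 * c - a * a) := by
  rw [ellMat, det_fromBlocks_zero₂₁, det_hypMat, det_fin_two_of]
  ring

theorem polar_minus (m : ℕ) (a c : F) (u v : (Fin m ⊕ Fin m) ⊕ Fin 2 → F) :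
    QuadraticMap.polar (Cfsg.quadFormMinus m F a c) u v = u ⬝ᵥ (ellMat m a c *ᵥ v) := by
  have h := polar_plus m (u ∘ Sum.inl) (v ∘ Sum.inl)
  rw [ellMat, Matrix.fromBlocks_mulVec, zero_mulVec, zero_mulVec, add_zero, zero_add,
    dotProduct, Fintype.sum_sum_type]
  simp only [Sum.elim_inl, Sum.elim_inr]
  rw [show (∑ x, u (Sum.inl x) * (hypMat F m *ᵥ (v ∘ Sum.inl)) x) =
    (u ∘ Sum.inl) ⬝ᵥ (hypMat F m *ᵥ (v ∘ Sum.inl)) from rfl, ← h]
  simp only [QuadraticMap.polar, Cfsg.quadFormMinus, Cfsg.quadFormPlus, Pi.add_apply,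
    Function.comp_apply, Fin.sum_univ_two, Matrix.mulVec, dotProduct, Matrix.of_apply,
    Matrix.cons_val', Matrix.cons_val_zero, Matrix.cons_val_one, Matrix.empty_val',
    Matrix.cons_val_fin_one]
  ring

theorem not_isSquare_of_anisotropic (h2 : (2 : F) ≠ 0) {a c : F}
    (hac : ∀ z₁ z₂ : F, z₁ ^ 2 + a * z₁ * z₂ + c * z₂ ^ 2 = 0 → z₁ = 0 ∧ z₂ = 0) :
    ¬ IsSquare (a * a - 4 * c) := by
  rintro ⟨s, hs⟩
  refine one_ne_zero (hac ((s - a) / 2) 1 ?_).2
  field_simp
  linear_combination -hs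

theorem neg_one_pow_isSquare_iff [Fintype F] {q : ℕ} (hF : Fintype.card F = q) (hq : Odd q)
    (m : ℕ) : IsSquare ((-1 : F) ^ m) ↔ Even (m * (q - 1) / 2) := by
  obtain ⟨t, ht⟩ := hq
  rw [show m * (q - 1) / 2 = m * t by
    rw [ht, Nat.add_sub_cancel, mul_left_comm, Nat.mul_div_cancel_left _ (by norm_num : 0 < 2)],
    Nat.even_mul]
  rcases Nat.even_or_odd m with hm | hm
  · simp [hm, hm.neg_one_pow]
  · rw [hm.neg_one_pow, FiniteField.isSquare_neg_one_iff, hF, ht]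
    simp only [Nat.not_even_iff_odd.mpr hm, false_or, Nat.even_iff]
    omega

theorem two_ne_zero_of_odd [Fintype F] {q : ℕ} (hF : Fintype.card F = q) (hq : Odd q) :
    (2 : F) ≠ 0 := by
  refine Ring.two_ne_zero fun hc => ?_
  have := (FiniteField.even_card_iff_char_two (F := F)).mp hc
  rw [hF, ← Nat.even_iff] at this
  exact (Nat.not_even_iff_odd.mpr hq) this

end CfsgLib.FiniteForms
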