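import Cfsg.Agent.Lib.FiniteForms.Witt
import Cfsg.Agent.Lib.FiniteForms.Standard

/-!
Bases adapted to nonsingular quadratic forms over finite fields and the two types in even
dimension; bounds for totally singular subspaces.
-/

set_option autoImplicit false

namespace CfsgLib.FiniteForms

open QuadraticMap Matrix

universe u

variable {F : Type*} [Field F] {V : Type u} [AddCommGroup V] [Module F V] {Q : QuadraticForm F V}

theorem quad_sum_eq_zero {ι : Type*} (s : Finset ι) (a : ι → F) (e : ι → V)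
    (he : ∀ i, Q (e i) = 0) (hee : ∀ i j, polar Q (e i) (e j) = 0) :
    Q (∑ i ∈ s, a i • e i) = 0 := by
  classical
  induction s using Finset.induction_on with
  | empty => rw [Finset.sum_empty, QuadraticMap.map_zero]
  | insert i s hi ih =>
    rw [Finset.sum_insert hi, QuadraticMap.map_add ⇑Q, ih, QuadraticMap.map_smul, he]
    have : polar Q (a i • e i) (∑ j ∈ s, a j • e j) = 0 := by
      show polarBilin Q (a i • e i) (∑ j ∈ s, a j • e j) = 0
      simp [map_sum, polarBilin_apply_apply, hee]
    rw [this, smul_zero, add_zero, add_zero]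

theorem HypFam.quad_comb {k : ℕ} {e f : Fin k → V} (h : HypFam Q e f) (a b : Fin k → F) :
    Q (∑ i, a i • e i + ∑ i, b i • f i) = ∑ i, a i * b i := by
  rw [QuadraticMap.map_add ⇑Q, quad_sum_eq_zero _ _ _ h.qe h.ee, quad_sum_eq_zero _ _ _ h.qf h.ff,
    zero_add, zero_add]
  show polarBilin Q (∑ i, a i • e i) (∑ i, b i • f i) = _
  simp [map_sum, polarBilin_apply_apply, h.ef, polar_smul_left, mul_comm]

/-- Nonsingular forms in even dimension are hyperbolic or elliptic. -/
theorem even_dichotomy [FiniteDimensional F V] [Finite F] (hQ : PolarNondeg Q) {m : ℕ}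
    (hm : 1 ≤ m) (hV : Module.finrank F V = 2 * m) :
    (∃ e f : Fin m → V, HypFam Q e f) ∨
      ∃ (e f : Fin (m - 1) → V) (x y : V), HypFam Q e f ∧ x ∈ famPerp Q e f ∧ y ∈ famPerp Q e f ∧
        Q x = 1 ∧ polar Q x y = 1 ∧ (∀ t : F, t ^ 2 + t + Q y ≠ 0) ∧
        LinearIndependent F ![x, y] := by
  obtain ⟨n, rfl⟩ : ∃ n, m = n + 1 := ⟨m - 1, by omega⟩
  obtain ⟨e, f, h⟩ := exists_hypFam n V Q hQ (by omega)
  have hP : Module.finrank F (famPerp Q e f) = 2 := by
    have := h.finrank_famPerp
    omega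
  by_cases hiso : ∀ x ∈ famPerp Q e f, Q x = 0 → x = 0
  · obtain ⟨x, y, hx, hy, hQx, hxy, ht, hli⟩ := exists_elliptic_basis hP
      (fun x hx hall => h.famPerp_nondeg hQ hx hall) hiso
    exact Or.inr ⟨e, f, x, y, h, hx, hy, hQx, hxy, ht, hli⟩
  · push Not at hiso
    obtain ⟨x, hx, hQx, hx0⟩ := hiso
    obtain ⟨y₀, hy₀, hne⟩ : ∃ y ∈ famPerp Q e f, polar Q x y ≠ 0 := by
      by_contra hc
      push Not at hc
      exact hx0 (h.famPerp_nondeg hQ hx hc)
    have hxx : polar Q x x = 0 := by rw [polar_self, hQx, nsmul_zero]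
    set g := (polar Q x y₀)⁻¹ • y₀
    have hgP : g ∈ famPerp Q e f := Submodule.smul_mem _ _ hy₀
    have hxg : polar Q x g = 1 := by
      simp only [g, polar_smul_right, smul_eq_mul, inv_mul_cancel₀ hne]
    clear_value g
    set z := g + (-Q g) • x with hzdef
    have hzP : z ∈ famPerp Q e f :=
      Submodule.add_mem _ hgP (Submodule.smul_mem _ _ hx)
    have hxz : polar Q x z = 1 := by
      rw [hzdef, polar_add_right, polar_smul_right, hxx, smul_zero, add_zero, hxg]
    have hQz : Q z = 0 := by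
      rw [hzdef, QuadraticMap.map_add ⇑Q, QuadraticMap.map_smul, hQx, smul_zero, add_zero,
        polar_smul_right, polar_comm ⇑Q g x, hxg, smul_eq_mul, mul_one, add_neg_cancel]
    have hzz : polar Q z z = 0 := by rw [polar_self, hQz, nsmul_zero]
    obtain ⟨hxe, hxf⟩ := mem_famPerp.mp hx
    obtain ⟨hze, hzf⟩ := mem_famPerp.mp hzP
    refine Or.inl ⟨Fin.cons x e, Fin.cons z f, ?_, ?_, ?_, ?_, ?_⟩
    · exact Fin.cases (by simpa using hQx) fun i => by simpa using h.qe i
    · exact Fin.cases (by simpa using hQz) fun i => by simpa using h.qf i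
    · refine Fin.cases (Fin.cases ?_ fun j => ?_) fun i => Fin.cases ?_ fun j => ?_
      · simpa using hxz
      · simpa [(Fin.succ_ne_zero j).symm, polar_comm ⇑Q x] using hxf j
      · simpa [Fin.succ_ne_zero i] using hze i
      · simp only [Fin.cons_succ, Fin.succ_inj]
        exact h.ef i j
    · refine Fin.cases (Fin.cases ?_ fun j => ?_) fun i => Fin.cases ?_ fun j => ?_
      · simpa using hxx
      · simpa [polar_comm ⇑Q x] using hxe j
      · simpa using hxe i
      · simp only [Fin.cons_succ]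
        exact h.ee i j
    · refine Fin.cases (Fin.cases ?_ fun j => ?_) fun i => Fin.cases ?_ fun j => ?_
      · simpa using hzz
      · simpa [polar_comm ⇑Q z] using hzf j
      · simpa using hzf i
      · simp only [Fin.cons_succ]
        exact h.ff i j

/-- Hyperbolic coordinates. -/
theorem isometry_of_hypFam [FiniteDimensional F V] {k : ℕ} {e f : Fin k → V} (h : HypFam Q e f)
    (hd : Module.finrank F V = 2 * k) :
    ∃ g : V ≃ₗ[F] (Fin k ⊕ Fin k → F), ∀ v, Q v = Cfsg.quadFormPlus k F (g v) := by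
  let b : Module.Basis (Fin k ⊕ Fin k) F V := basisOfLinearIndependentOfCardEqFinrank'
    (Sum.elim e f) h.linearIndependent (by simp [hd, two_mul])
  refine ⟨b.equivFun, fun v => ?_⟩
  conv_lhs => rw [← b.sum_equivFun v, Fintype.sum_sum_type]
  simp only [b, coe_basisOfLinearIndependentOfCardEqFinrank', Sum.elim_inl, Sum.elim_inr]
  rw [h.quad_comb]
  rfl

/-- Elliptic coordinates. -/
theorem isometry_of_elliptic [FiniteDimensional F V] {k : ℕ} {e f : Fin k → V} {x y : V}
    (h : HypFam Q e f) (hx : x ∈ famPerp Q e f) (hy : y ∈ famPerp Q e f)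
    (hxy : polar Q x y = 1) (hQx : Q x = 1) (hli : LinearIndependent F ![x, y])
    (hd : Module.finrank F V = 2 * k + 2) :
    ∃ g : V ≃ₗ[F] ((Fin k ⊕ Fin k) ⊕ Fin 2 → F),
      ∀ v, Q v = Cfsg.quadFormMinus k F 1 (Q y) (g v) := by
  let b : Module.Basis ((Fin k ⊕ Fin k) ⊕ Fin 2) F V := basisOfLinearIndependentOfCardEqFinrank'
    (Sum.elim (Sum.elim e f) ![x, y])
    (h.linearIndependent_sum (fun i => by fin_cases i <;> assumption) hli)
    (by simp [hd, two_mul])
  refine ⟨b.equivFun, fun v => ?_⟩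
  conv_lhs => rw [← b.sum_equivFun v, Fintype.sum_sum_type, Fintype.sum_sum_type]
  simp only [b, coe_basisOfLinearIndependentOfCardEqFinrank', Sum.elim_inl, Sum.elim_inr,
    Fin.sum_univ_two, Matrix.cons_val_zero, Matrix.cons_val_one]
  obtain ⟨hxe, hxf⟩ := mem_famPerp.mp hx
  obtain ⟨hye, hyf⟩ := mem_famPerp.mp hy
  rw [QuadraticMap.map_add ⇑Q, h.quad_comb, QuadraticMap.map_add ⇑Q, QuadraticMap.map_smul,
    QuadraticMap.map_smul, hQx]
  have hcross : ∀ (a b : Fin k → F) (r s : F),
      polar Q (∑ i, a i • e i + ∑ i, b i • f i) (r • x + s • y) = 0 := by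
    intro a b r s
    show polarBilin Q _ _ = 0
    simp [map_add, map_sum, polarBilin_apply_apply, polar_smul_left, polar_smul_right,
      polar_add_left, hxe, hxf, hye, hyf]
  rw [hcross, polar_smul_left, polar_smul_right, hxy, add_zero]
  simp only [Cfsg.quadFormMinus, smul_eq_mul]
  ring

/-- A subspace on which one coordinate block pairs to zero with the other is small. -/
theorem finrank_le_of_proj [FiniteDimensional F V] {n : ℕ} (U : Submodule F V)
    (px py : V →ₗ[F] (Fin n → F)) (h1 : ∀ u ∈ U, px u = 0 → py u = 0 → u = 0)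
    (h2 : ∀ u ∈ U, ∀ u' ∈ U, px u' = 0 → px u ⬝ᵥ py u' = 0) :
    Module.finrank F U ≤ n := by
  let A : Submodule F (Fin n → F) := LinearMap.range (px.comp U.subtype)
  let K : Submodule F U := LinearMap.ker (px.comp U.subtype)
  let B : Submodule F (Fin n → F) := LinearMap.range ((py.comp U.subtype).comp K.subtype)
  have hdim := LinearMap.finrank_range_add_finrank_ker (px.comp U.subtype)
  have hinj : Function.Injective ((py.comp U.subtype).comp K.subtype) := by
    rw [injective_iff_map_eq_zero]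
    intro z hz
    exact Subtype.ext (Subtype.ext (h1 _ z.1.2 z.2 hz))
  have hB : Module.finrank F B = Module.finrank F K := LinearMap.finrank_range_of_inj hinj
  let δ : A →ₗ[F] B.dualAnnihilator :=
    (((dotProductEquiv F (Fin n)).toLinearMap).comp A.subtype).codRestrict _ fun a => by
      rw [Submodule.mem_dualAnnihilator]
      rintro _ ⟨z, rfl⟩
      obtain ⟨_, u, rfl⟩ := a
      exact h2 u.1 u.2 z.1.1 z.1.2 z.2
  have hδ : Function.Injective δ := fun a b hab =>
    Subtype.ext ((dotProductEquiv F (Fin n)).injective (congrArg Subtype.val hab))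
  have hle := LinearMap.finrank_le_finrank_of_injective hδ
  have hann := Subspace.finrank_add_finrank_dualAnnihilator_eq B
  rw [Module.finrank_fin_fun] at hann
  have : Module.finrank F A + Module.finrank F K = Module.finrank F U := hdim
  omega

/-- Totally singular subspaces of the hyperbolic form. -/
theorem plus_totally_singular_le {m : ℕ} (U : Submodule F (Fin m ⊕ Fin m → F))
    (hU : ∀ u ∈ U, Cfsg.quadFormPlus m F u = 0) : Module.finrank F U ≤ m := by
  refine finrank_le_of_proj U (LinearMap.funLeft F F Sum.inl) (LinearMap.funLeft F F Sum.inr)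
    (fun u _ hx hy => funext fun i => ?_) fun u hu u' hu' hx => ?_
  · rcases i with i | i
    · exact congrFun hx i
    · exact congrFun hy i
  · have hx' : ∀ i, u' (Sum.inl i) = 0 := fun i => congrFun hx i
    have := hU _ (U.add_mem hu hu')
    have h0 := hU u hu
    simp only [Cfsg.quadFormPlus, Pi.add_apply, hx', add_zero, mul_add,
      Finset.sum_add_distrib] at this h0
    rw [h0, zero_add] at this
    simpa [dotProduct, LinearMap.funLeft_apply] using this

/-- Totally singular subspaces of an elliptic form. -/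
theorem minus_totally_singular_le {n : ℕ} {a b : F}
    (hab : ∀ z₁ z₂ : F, z₁ ^ 2 + a * z₁ * z₂ + b * z₂ ^ 2 = 0 → z₁ = 0 ∧ z₂ = 0)
    (U : Submodule F ((Fin n ⊕ Fin n) ⊕ Fin 2 → F))
    (hU : ∀ u ∈ U, Cfsg.quadFormMinus n F a b u = 0) : Module.finrank F U ≤ n := by
  have hz : ∀ u ∈ U, (∀ i, u (.inl (.inl i)) = 0) → ∀ k : Fin 2, u (.inr k) = 0 := by
    intro u hu hx
    have h0 := hU u hu
    simp only [Cfsg.quadFormMinus, hx, zero_mul, Finset.sum_const_zero, zero_add] at h0
    obtain ⟨e1, e2⟩ := hab _ _ h0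
    intro k
    fin_cases k
    · exact e1
    · exact e2
  refine finrank_le_of_proj U (LinearMap.funLeft F F (Sum.inl ∘ Sum.inl))
    (LinearMap.funLeft F F (Sum.inl ∘ Sum.inr)) (fun u hu hx hy => funext fun i => ?_)
    fun u hu u' hu' hx => ?_
  · rcases i with (i | i) | k
    · exact congrFun hx i
    · exact congrFun hy i
    · exact hz u hu (fun i => congrFun hx i) k
  · have hx' : ∀ i, u' (.inl (.inl i)) = 0 := fun i => congrFun hx i
    have hz' := hz u' hu' hx'
    have := hU _ (U.add_mem hu hu')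
    have h0 := hU u hu
    simp only [Cfsg.quadFormMinus, Pi.add_apply, hx', hz', add_zero, mul_add,
      Finset.sum_add_distrib] at this h0
    simp only [dotProduct, LinearMap.funLeft_apply, Function.comp_apply]
    linear_combination this - h0

theorem anisotropic_of_no_root {ζ : F} (hζ : ∀ t : F, t ^ 2 + t + ζ ≠ 0) :
    ∀ z₁ z₂ : F, z₁ ^ 2 + 1 * z₁ * z₂ + ζ * z₂ ^ 2 = 0 → z₁ = 0 ∧ z₂ = 0 := by
  intro z₁ z₂ h
  rcases eq_or_ne z₂ 0 with rfl | h2
  · refine ⟨?_, rfl⟩
    simpa using h
  · exfalso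
    refine hζ (z₁ / z₂) ?_
    field_simp
    linear_combination h

/-- The first coordinate block spans a totally singular subspace. -/
theorem plus_exists_singular (m : ℕ) :
    ∃ U : Submodule F (Fin m ⊕ Fin m → F),
      (∀ u ∈ U, Cfsg.quadFormPlus m F u = 0) ∧ Module.finrank F U = m := by
  let L : (Fin m → F) →ₗ[F] (Fin m ⊕ Fin m → F) :=
    { toFun := fun x => Sum.elim x 0
      map_add' := fun x y => by funext i; rcases i with i | i <;> simp
      map_smul' := fun c x => by funext i; rcases i with i | i <;> simp }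
  refine ⟨LinearMap.range L, ?_, ?_⟩
  · rintro _ ⟨x, rfl⟩
    simp [Cfsg.quadFormPlus, L]
  · rw [LinearMap.finrank_range_of_inj fun x y h => funext fun i => congrFun h (Sum.inl i),
      Module.finrank_fin_fun]

/-- The two types are different. -/
theorem plus_not_isometric_minus {m : ℕ} (hm : 1 ≤ m) {ζ : F} (hζ : ∀ t : F, t ^ 2 + t + ζ ≠ 0)
    (g : (Fin m ⊕ Fin m → F) ≃ₗ[F] ((Fin (m - 1) ⊕ Fin (m - 1)) ⊕ Fin 2 → F)) :
    ¬ ∀ v, Cfsg.quadFormMinus (m - 1) F 1 ζ (g v) = Cfsg.quadFormPlus m F v := by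
  intro h
  obtain ⟨U, hU, hd⟩ := plus_exists_singular (F := F) m
  have := minus_totally_singular_le (anisotropic_of_no_root hζ)
    (U.map g.toLinearMap) (by
      rintro _ ⟨u, hu, rfl⟩
      rw [LinearEquiv.coe_coe, h, hU u hu])
  rw [LinearEquiv.finrank_map_eq, hd] at this
  omega

end CfsgLib.FiniteForms
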