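import Cfsg.Agent.Lib.FiniteForms.Congr
import Mathlib.LinearAlgebra.QuadraticForm.Basis
import Mathlib.NumberTheory.LegendreSymbol.QuadraticChar.Basic

/-!
Quadratic forms on coordinate spaces and their polar matrices; square classes in finite fields.
-/

set_option autoImplicit false

namespace CfsgLib.FiniteForms

open Matrix

variable {F : Type*} [Field F] {ι : Type*} [Fintype ι] [DecidableEq ι]

/-- The matrix of the polar form in the standard basis. -/
def polarMat (Q : (ι → F) → F) : Matrix ι ι F :=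
  Matrix.of fun i j => QuadraticMap.polar Q (Pi.single i 1) (Pi.single j 1)

theorem polarMat_eq (Q : QuadraticForm F (ι → F)) :
    polarMat ⇑Q = LinearMap.toMatrix₂' F (QuadraticMap.polarBilin Q) := by
  ext i j
  rw [LinearMap.toMatrix₂'_apply]
  rfl

theorem polar_eq (Q : QuadraticForm F (ι → F)) (u v : ι → F) :
    QuadraticMap.polar Q u v = u ⬝ᵥ (polarMat ⇑Q *ᵥ v) := by
  show QuadraticMap.polarBilin Q u v = _
  rw [polarMat_eq, ← Matrix.toLinearMap₂'_apply', Matrix.toLinearMap₂'_toMatrix']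

theorem two_mul_eq (Q : QuadraticForm F (ι → F)) (v : ι → F) :
    2 * Q v = v ⬝ᵥ (polarMat ⇑Q *ᵥ v) := by
  rw [← polar_eq, QuadraticMap.polar_self, two_smul, two_mul]

theorem polarMat_isSymm (Q : (ι → F) → F) : (polarMat Q).IsSymm := by
  ext i j
  exact QuadraticMap.polar_comm Q _ _

theorem polarMat_det_ne_zero {Q : QuadraticForm F (ι → F)}
    (h : (QuadraticMap.polarBilin Q).Nondegenerate) : (polarMat ⇑Q).det ≠ 0 := by
  rw [polarMat_eq, ← Matrix.nondegenerate_iff_det_ne_zero, LinearMap.nondegenerate_toMatrix₂'_iff]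
  exact h

/-- Isometries give congruences. -/
theorem congr_of_isometry (Q₁ Q₂ : QuadraticForm F (ι → F)) (g : (ι → F) ≃ₗ[F] (ι → F))
    (h : ∀ v, Q₂ (g v) = Q₁ v) : Congr (polarMat ⇑Q₂) (polarMat ⇑Q₁) := by
  refine ⟨LinearMap.toMatrix' (g : (ι → F) →ₗ[F] (ι → F)), ?_, ?_⟩
  · rw [LinearMap.det_toMatrix']
    exact g.isUnit_det'.ne_zero
  · ext i j
    have hc : ∀ k, (LinearMap.toMatrix' (g : (ι → F) →ₗ[F] (ι → F))) *ᵥ Pi.single k 1 =
        g (Pi.single k 1) := fun k => LinearMap.toMatrix'_mulVec _ _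
    have key : ∀ P M : Matrix ι ι F, (Pᵀ * M * P) i j =
        (P *ᵥ Pi.single i 1) ⬝ᵥ (M *ᵥ (P *ᵥ Pi.single j 1)) := fun P M => by
      rw [mulVec_single_one, mulVec_single_one, Matrix.mul_assoc]
      rfl
    rw [key, hc, hc, ← polar_eq]
    show _ = QuadraticMap.polar Q₁ (Pi.single i 1) (Pi.single j 1)
    simp only [QuadraticMap.polar, ← map_add, h]

/-- Congruences give isometries. -/
theorem isometry_of_congr (h2 : (2 : F) ≠ 0) (Q₁ Q₂ : QuadraticForm F (ι → F))
    (h : Congr (polarMat ⇑Q₂) (polarMat ⇑Q₁)) :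
    ∃ g : (ι → F) ≃ₗ[F] (ι → F), ∀ v, Q₂ (g v) = Q₁ v := by
  obtain ⟨P, hP, he⟩ := h
  haveI := Matrix.invertibleOfIsUnitDet P (isUnit_iff_ne_zero.mpr hP)
  refine ⟨Matrix.toLinearEquiv' P inferInstance, fun v => mul_left_cancel₀ h2 ?_⟩
  show 2 * Q₂ (P *ᵥ v) = _
  rw [two_mul_eq, two_mul_eq, ← he, Matrix.mul_assoc, ← mulVec_mulVec, ← mulVec_mulVec,
    dotProduct_mulVec v Pᵀ, vecMul_transpose]

theorem polarMat_smul (Q : QuadraticForm F (ι → F)) (c : F) :
    polarMat ⇑(c • Q) = c • polarMat ⇑Q := by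
  ext i j
  exact QuadraticMap.polar_smul _ c _ _

/-- A bilinear form in an arbitrary basis has determinant a square multiple of the standard one. -/
theorem det_basis {κ : Type*} [Fintype κ] [DecidableEq κ] (b : Module.Basis κ F (ι → F))
    (M : Matrix ι ι F) (β : (ι → F) → (ι → F) → F) (hβ : ∀ u v, β u v = u ⬝ᵥ (M *ᵥ v)) :
    ∃ p : F, p ≠ 0 ∧ (Matrix.of fun i j => β (b i) (b j)).det = p * p * M.det := by
  let e : κ ≃ ι := b.indexEquiv (Pi.basisFun F ι)
  let w := b.reindex e
  let P : Matrix ι ι F := (Pi.basisFun F ι).toMatrix w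
  have hP : P.det ≠ 0 := by
    intro h0
    have := congrArg Matrix.det
      (Module.Basis.toMatrix_mul_toMatrix_flip (Pi.basisFun F ι) w)
    rw [det_mul, show ((Pi.basisFun F ι).toMatrix w).det = 0 from h0, zero_mul, det_one] at this
    exact zero_ne_one this
  refine ⟨P.det, hP, ?_⟩
  have : (Matrix.of fun i j => β (b i) (b j)) = (Pᵀ * M * P).submatrix e e := by
    ext i j
    rw [Matrix.of_apply, Matrix.submatrix_apply, Matrix.mul_assoc, hβ]
    simp only [Matrix.mul_apply, Matrix.transpose_apply, dotProduct, Matrix.mulVec, P,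
      Module.Basis.toMatrix_apply, Pi.basisFun_repr, w, Module.Basis.reindex_apply,
      Equiv.symm_apply_apply]
  rw [this, det_submatrix_equiv_self, det_mul, det_mul, det_transpose]
  ring

theorem isSquare_sq_mul_iff {p a : F} (hp : p ≠ 0) : IsSquare (p * p * a) ↔ IsSquare a := by
  constructor
  · rintro ⟨t, ht⟩
    exact ⟨t / p, by field_simp; linear_combination ht⟩
  · rintro ⟨t, rfl⟩
    exact ⟨p * t, by ring⟩

variable [Finite F]

omit ι in
theorem isSquare_mul_iff {a b : F} (ha : a ≠ 0) (hb : b ≠ 0) :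
    IsSquare (a * b) ↔ (IsSquare a ↔ IsSquare b) := by
  classical
  have := Fintype.ofFinite F
  by_cases h2 : ringChar F = 2
  · simp [FiniteField.isSquare_of_char_two h2]
  rw [← quadraticChar_one_iff_isSquare (mul_ne_zero ha hb), ← quadraticChar_one_iff_isSquare ha,
    ← quadraticChar_one_iff_isSquare hb, map_mul]
  rcases quadraticChar_dichotomy ha with h | h <;> rcases quadraticChar_dichotomy hb with h' | h' <;>
    rw [h, h'] <;> decide

end CfsgLib.FiniteForms
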