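import Cfsg.Agent.Lib.PSLn.Descent
import Cfsg.Prelude.Def_Classical
import Mathlib.LinearAlgebra.SymplecticGroup
import Mathlib.LinearAlgebra.Matrix.ToLin
import Mathlib.FieldTheory.Finite.GaloisField
import Mathlib.RingTheory.AdjoinRoot
import Mathlib.FieldTheory.Perfect

/-!
Change of scalars in finite classical groups: transport of matrix groups along (semi)linear
coordinate maps, and quadratic extensions of finite fields.
-/

set_option autoImplicit false

namespace CfsgLib.FiniteForms

open Matrix

/-- A matrix over `K` read in `F`-coordinates given by `T`. -/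
noncomputable def restrictMat {F K ι κ : Type*} [Field F] [Field K] [Algebra F K]
    [Fintype ι] [DecidableEq ι] [Fintype κ] [DecidableEq κ] (T : (ι → K) ≃ₗ[F] (κ → F)) :
    Matrix ι ι K →* Matrix κ κ F where
  toFun A := LinearMap.toMatrix'
    (T.toLinearMap ∘ₗ (A.mulVecLin.restrictScalars F) ∘ₗ T.symm.toLinearMap)
  map_one' := by
    rw [Matrix.mulVecLin_one]
    convert LinearMap.toMatrix'_id using 2
    ext v
    simp
  map_mul' A B := by
    rw [← LinearMap.toMatrix'_comp]
    congr 1
    ext v
    simp [Matrix.mulVec_mulVec]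

theorem restrictMat_mulVec {F K ι κ : Type*} [Field F] [Field K] [Algebra F K]
    [Fintype ι] [DecidableEq ι] [Fintype κ] [DecidableEq κ] (T : (ι → K) ≃ₗ[F] (κ → F))
    (A : Matrix ι ι K) (v : ι → K) : restrictMat T A *ᵥ T v = T (A *ᵥ v) := by
  show LinearMap.toMatrix' _ *ᵥ T v = _
  rw [LinearMap.toMatrix'_mulVec]
  simp

theorem restrictMat_injective {F K ι κ : Type*} [Field F] [Field K] [Algebra F K]
    [Fintype ι] [DecidableEq ι] [Fintype κ] [DecidableEq κ] (T : (ι → K) ≃ₗ[F] (κ → F)) :
    Function.Injective (restrictMat T) := fun A B h => by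
  refine Matrix.ext_of_mulVec_single fun i => T.injective ?_
  rw [← restrictMat_mulVec, ← restrictMat_mulVec, h]

/-- Transport into an isometry group. -/
theorem exists_hom_isometry {F K G : Type*} [Field F] [Field K] [Algebra F K] [Group G]
    {ι : Type*} [Fintype ι] [DecidableEq ι] {κ : Type} [Fintype κ] [DecidableEq κ]
    (ψ : G →* Matrix ι ι K) (hψ : Function.Injective ψ) (T : (ι → K) ≃ₗ[F] (κ → F))
    (Q : (κ → F) → F) (h : ∀ g v, Q (T (ψ g *ᵥ v)) = Q (T v)) :
    ∃ φ : G →* ↥(Cfsg.isometryGroup F Q), Function.Injective φ := by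
  let φ₀ : G →* GL κ F := ((restrictMat T).comp ψ).toHomUnits
  have hmem : ∀ g, φ₀ g ∈ Cfsg.isometryGroup F Q := by
    intro g u _
    show Q ((φ₀ g).1 *ᵥ u) = Q u
    obtain ⟨v, rfl⟩ := T.surjective u
    show Q (restrictMat T (ψ g) *ᵥ T v) = _
    rw [restrictMat_mulVec, h]
  refine ⟨φ₀.codRestrict _ hmem, fun a b hab => hψ (restrictMat_injective T ?_)⟩
  exact congrArg (fun x : ↥(Cfsg.isometryGroup F Q) => (x.1 : GL κ F).1) hab

/-- Transport into a symplectic group. -/
theorem exists_hom_symplectic {F K G : Type*} [Field F] [Field K] [Algebra F K] [Group G]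
    {ι : Type*} [Fintype ι] [DecidableEq ι] {l : Type} [Fintype l] [DecidableEq l]
    (ψ : G →* Matrix ι ι K) (hψ : Function.Injective ψ) (T : (ι → K) ≃ₗ[F] (l ⊕ l → F))
    (h : ∀ g u v, T (ψ g *ᵥ u) ⬝ᵥ (J l F *ᵥ T (ψ g *ᵥ v)) = T u ⬝ᵥ (J l F *ᵥ T v)) :
    ∃ φ : G →* ↥(Matrix.symplecticGroup l F), Function.Injective φ := by
  let φ₀ : G →* Matrix (l ⊕ l) (l ⊕ l) F := (restrictMat T).comp ψ
  have hmem : ∀ g, φ₀ g ∈ Matrix.symplecticGroup l F := by
    intro g
    rw [SymplecticGroup.mem_iff']
    ext i j
    obtain ⟨u, hu⟩ := T.surjective (Pi.single i (1 : F))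
    obtain ⟨v, hv⟩ := T.surjective (Pi.single j (1 : F))
    have := h g u v
    rw [← restrictMat_mulVec, ← restrictMat_mulVec, hu, hv, mulVec_single_one, mulVec_single_one,
      mulVec_single_one, single_one_dotProduct] at this
    rw [Matrix.mul_assoc]
    exact this
  exact ⟨φ₀.codRestrict _ hmem, fun a b hab => hψ (restrictMat_injective T
    (congrArg (fun x : ↥(Matrix.symplecticGroup l F) => x.1) hab))⟩

variable {K F : Type*} [Field K] [Fintype K] [Field F] [Fintype F] {q : ℕ}

/-- A quadratic extension contains a root of every irreducible quadratic, over a suitable copy of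
the small field. -/
theorem exists_embedding_root (hK : Fintype.card K = q ^ 2) (hF : Fintype.card F = q) (s t : F)
    (hno : ∀ r : F, r ^ 2 + s * r + t ≠ 0) :
    ∃ (i : F →+* K) (w : K), w ^ 2 + i s * w + i t = 0 ∧ w ∉ i.range := by
  classical
  set P : Polynomial F := Polynomial.X ^ 2 + Polynomial.C s * Polynomial.X + Polynomial.C t
  have hdeg : P.natDegree = 2 := by
    simp only [P]
    compute_degree!
  have hP : Irreducible P := by
    refine Polynomial.irreducible_of_degree_le_three_of_not_isRoot ?_ ?_
    · rw [hdeg]; simp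
    · intro r hr
      refine hno r ?_
      simpa [P] using hr
  haveI := Fact.mk hP
  have hm : P.Monic := by
    simp only [P]
    monicity!
  let pb := AdjoinRoot.powerBasis' hm
  haveI : Module.Finite F (AdjoinRoot P) := pb.finite
  haveI : Finite (AdjoinRoot P) := Module.finite_of_finite F
  haveI : Fintype (AdjoinRoot P) := Fintype.ofFinite _
  have hcard : Fintype.card (AdjoinRoot P) = Fintype.card K := by
    rw [Module.card_eq_pow_finrank (K := F), pb.finrank, AdjoinRoot.powerBasis'_dim, hdeg, hK, hF]
  let e := FiniteField.ringEquivOfCardEq hcard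
  refine ⟨e.toRingHom.comp (AdjoinRoot.of P), e (AdjoinRoot.root P), ?_, ?_⟩
  · have h := AdjoinRoot.eval₂_root P
    simp only [P, Polynomial.eval₂_add, Polynomial.eval₂_pow, Polynomial.eval₂_X,
      Polynomial.eval₂_mul, Polynomial.eval₂_C] at h
    have h2 := congrArg e h
    simpa using h2
  · rintro ⟨r, hr⟩
    have hr' : AdjoinRoot.of P r = AdjoinRoot.root P := e.injective hr
    refine hno r ?_
    have h := AdjoinRoot.eval₂_root P
    rw [← hr', Polynomial.eval₂_hom] at h
    have := (AdjoinRoot.of P).injective (h.trans (map_zero _).symm)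
    simpa [P] using this

theorem two_le_card (hF : Fintype.card F = q) : 2 ≤ q := hF ▸ Fintype.one_lt_card

/-- Over a quadratic extension: the involutory automorphism, the fixed field and the norm. -/
theorem quadratic_data (hK : Fintype.card K = q ^ 2) (hF : Fintype.card F = q) (i : F →+* K) :
    ∃ σ : RingAut K, orderOf σ = 2 ∧ (∀ x, σ x = x ^ q) ∧ ∀ x, σ x = x ↔ x ∈ i.range := by
  classical
  obtain ⟨p, hp'⟩ := CharP.exists K
  obtain ⟨k, hp, hk⟩ := FiniteField.card K p
  haveI := Fact.mk hp
  obtain ⟨j, -, hj⟩ := (Nat.dvd_prime_pow hp).mp (show q ∣ p ^ (k : ℕ) by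
    rw [← hk, hK]; exact dvd_pow_self q two_ne_zero)
  let σ : RingAut K := iterateFrobeniusEquiv K p j
  have hσ : ∀ x, σ x = x ^ q := fun x => by rw [hj]; exact iterateFrobeniusEquiv_def K p j x
  have hq := two_le_card hF
  have hfix : ∀ x, σ x = x ↔ x ∈ i.range := by
    have hP := FiniteField.X_pow_card_sub_X_natDegree_eq K (show 1 < q by omega)
    have hne := FiniteField.X_pow_card_sub_X_ne_zero K (show 1 < q by omega)
    let R := (Polynomial.X ^ q - Polynomial.X : Polynomial K).roots.toFinset
    have hroot : ∀ x, x ∈ R ↔ σ x = x := fun x => by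
      simp [R, Polynomial.mem_roots hne, hσ, sub_eq_zero]
    have hsub : Finset.univ.image i ⊆ R := by
      intro x hx
      simp only [Finset.mem_image, Finset.mem_univ, true_and] at hx
      obtain ⟨r, rfl⟩ := hx
      rw [hroot, hσ, ← map_pow, ← hF, FiniteField.pow_card]
    have heq : Finset.univ.image i = R := by
      refine Finset.eq_of_subset_of_card_le hsub ?_
      rw [Finset.card_image_of_injective _ i.injective, Finset.card_univ, hF]
      exact ((Multiset.toFinset_card_le _).trans (Polynomial.card_roots' _)).trans hP.le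
    intro x
    rw [← hroot, ← heq]
    simp [RingHom.mem_range]
  refine ⟨σ, ?_, hσ, hfix⟩
  refine orderOf_eq_prime (RingEquiv.ext fun x => ?_) fun h1 => ?_
  · rw [pow_two, RingAut.mul_apply, hσ, hσ, ← pow_mul, ← pow_two, RingAut.one_apply, ← hK,
      FiniteField.pow_card]
  · have hs : Function.Surjective i := fun x => (hfix x).mp (by rw [h1, RingAut.one_apply])
    have := Fintype.card_le_of_surjective i hs
    rw [hK, hF] at this
    nlinarith

theorem exists_embedding (hK : Fintype.card K = q ^ 2) (hF : Fintype.card F = q) :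
    ∃ i : F →+* K, ∃ w : K, w ∉ i.range := by
  classical
  obtain ⟨p, hp'⟩ := CharP.exists K
  obtain ⟨k, hp, hk⟩ := FiniteField.card K p
  haveI := Fact.mk hp
  obtain ⟨j, -, hj⟩ := (Nat.dvd_prime_pow hp).mp (show q ∣ p ^ (k : ℕ) by
    rw [← hk, hK]; exact dvd_pow_self q two_ne_zero)
  have hq := two_le_card hF
  let σ : RingAut K := iterateFrobeniusEquiv K p j
  have hσ : ∀ x, σ x = x ^ q := fun x => by rw [hj]; exact iterateFrobeniusEquiv_def K p j x
  have hord : orderOf σ = 2 := by
    refine orderOf_eq_prime (RingEquiv.ext fun x => ?_) fun h1 => ?_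
    · rw [pow_two, RingAut.mul_apply, hσ, hσ, ← pow_mul, ← pow_two, RingAut.one_apply, ← hK,
        FiniteField.pow_card]
    · have hsub : (Finset.univ : Finset K).val ≤
          (Polynomial.X ^ q - Polynomial.X : Polynomial K).roots := by
        rw [Multiset.le_iff_subset Finset.univ.nodup]
        intro x _
        rw [Polynomial.mem_roots (FiniteField.X_pow_card_sub_X_ne_zero K (show 1 < q by omega)),
          Polynomial.IsRoot, Polynomial.eval_sub, Polynomial.eval_pow, Polynomial.eval_X, ← hσ,
          h1, RingAut.one_apply, sub_self]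
      have h2 := (Multiset.card_le_card hsub).trans (Polynomial.card_roots' _)
      rw [FiniteField.X_pow_card_sub_X_natDegree_eq K (show 1 < q by omega), ← Finset.card_def,
        Finset.card_univ, hK] at h2
      nlinarith
  have : Fintype (PSLn.fixedField σ) := Fintype.ofFinite _
  have hc : Fintype.card F = Fintype.card (PSLn.fixedField σ) := by
    rw [hF, ← Nat.card_eq_fintype_card]
    refine Nat.pow_left_injective two_ne_zero ?_
    show q ^ 2 = _ ^ 2
    rw [← hK, PSLn.card_eq_fixedField_pow σ, hord]
  let i := (PSLn.fixedField σ).subtype.comp (FiniteField.ringEquivOfCardEq hc).toRingHom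
  refine ⟨i, ?_⟩
  by_contra hcon
  push Not at hcon
  have := Fintype.card_le_of_surjective i hcon
  rw [hK, hF] at this
  nlinarith

/-- Coordinates in the basis `1, w`. -/
theorem exists_coords [Algebra F K] (hK : Fintype.card K = q ^ 2) (hF : Fintype.card F = q) {w : K}
    (hw : w ∉ (algebraMap F K).range) :
    ∃ c : K ≃ₗ[F] (Fin 2 → F), ∀ x, x = algebraMap F K (c x 0) + algebraMap F K (c x 1) * w := by
  let f : (Fin 2 → F) →ₗ[F] K :=
    { toFun := fun v => algebraMap F K (v 0) + algebraMap F K (v 1) * w
      map_add' := fun u v => by simp [map_add]; ring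
      map_smul' := fun r v => by simp [Algebra.smul_def, map_mul]; ring }
  have hinj : Function.Injective f := by
    rw [injective_iff_map_eq_zero]
    intro v hv
    have hv' : algebraMap F K (v 0) + algebraMap F K (v 1) * w = 0 := hv
    rcases eq_or_ne (v 1) 0 with h1 | h1
    · rw [h1, map_zero, zero_mul, add_zero, map_eq_zero] at hv'
      funext j
      fin_cases j <;> simp [h1, hv']
    · refine absurd ⟨-v 0 / v 1, ?_⟩ hw
      have : algebraMap F K (v 1) ≠ 0 := by simp [h1]
      rw [map_div₀, map_neg, div_eq_iff this]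
      linear_combination -hv'
  have hbij : Function.Bijective f := by
    rw [Fintype.bijective_iff_injective_and_card]
    exact ⟨hinj, by rw [Fintype.card_fun, Fintype.card_fin, hF, hK]⟩
  refine ⟨(LinearEquiv.ofBijective f hbij).symm, fun x => ?_⟩
  exact ((LinearEquiv.ofBijective f hbij).apply_symm_apply x).symm

end CfsgLib.FiniteForms
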