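import Cfsg.Agent.Lib.FiniteForms.Restrict
import Cfsg.Prelude.Def_LieClassical

/-!
Coordinates that turn hermitian forms into symplectic and quadratic forms over the fixed field,
and symplectic forms over an extension into symplectic forms over the small field.
-/

set_option autoImplicit false

namespace CfsgLib.FiniteForms

open Matrix

variable {K F : Type*} [Field K] [Fintype K] [Field F] [Fintype F] {q : ℕ}

omit [Fintype K] [Fintype F] in
theorem dot_J {l : Type*} [Fintype l] [DecidableEq l] {R : Type*} [CommRing R] (u v : l ⊕ l → R) :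
    u ⬝ᵥ (J l R *ᵥ v) = ∑ i, (u (.inr i) * v (.inl i) - u (.inl i) * v (.inr i)) := by
  have e : J l R *ᵥ v = Sum.elim (-(v ∘ Sum.inr)) (v ∘ Sum.inl) := by
    funext k
    rcases k with k | k <;> simp [J, Matrix.mulVec, dotProduct, Matrix.one_apply]
  rw [e, dotProduct, Fintype.sum_sum_type, ← Finset.sum_add_distrib]
  exact Finset.sum_congr rfl fun i _ => by
    simp only [Sum.elim_inl, Sum.elim_inr, Pi.neg_apply, Function.comp_apply]; ring

omit [Fintype K] in
theorem gu_hermForm {m : ℕ} (g : GL (Fin m) K) (hg : g ∈ Cfsg.GU m K q) (u v : Fin m → K) :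
    Cfsg.hermForm m K q (g.1 *ᵥ u) (g.1 *ᵥ v) = Cfsg.hermForm m K q u v := hg u v

/-- Symplectic coordinates of a hermitian space. -/
theorem exists_symp_coords (hK : Fintype.card K = q ^ 2) (hF : Fintype.card F = q) (m : ℕ) :
    ∃ (i : F →+* K), letI := i.toAlgebra
      ∃ T : (Fin m → K) ≃ₗ[F] (Fin m ⊕ Fin m → F), ∀ u v u' v' : Fin m → K,
        Cfsg.hermForm m K q u v = Cfsg.hermForm m K q u' v' →
          T u ⬝ᵥ (J (Fin m) F *ᵥ T v) = T u' ⬝ᵥ (J (Fin m) F *ᵥ T v') := by
  obtain ⟨i, w, hw⟩ := exists_embedding hK hF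
  refine ⟨i, ?_⟩
  letI := i.toAlgebra
  obtain ⟨σ, hord, hσ, hfix⟩ := quadratic_data hK hF i
  obtain ⟨c, hc⟩ := exists_coords hK hF (w := w) hw
  have hss : ∀ x, σ (σ x) = x := fun x => by
    have h := congrArg (fun e : RingAut K => e x) (pow_orderOf_eq_one σ)
    rwa [hord, pow_two] at h
  let T : (Fin m → K) ≃ₗ[F] (Fin m ⊕ Fin m → F) :=
    { toFun := fun u => Sum.elim (fun j => c (u j) 0) (fun j => c (u j) 1)
      invFun := fun z j => c.symm ![z (.inl j), z (.inr j)]
      map_add' := fun u v => by funext k; rcases k with k | k <;> simp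
      map_smul' := fun r v => by funext k; rcases k with k | k <;> simp
      left_inv := fun u => funext fun j => by
        apply c.injective
        rw [LinearEquiv.apply_symm_apply]
        funext k; fin_cases k <;> rfl
      right_inv := fun z => by funext k; rcases k with k | k <;> simp }
  have hfix' : ∀ r : F, σ (algebraMap F K r) = algebraMap F K r := fun r => (hfix _).mpr ⟨r, rfl⟩
  have key : ∀ u v : Fin m → K, algebraMap F K (T u ⬝ᵥ (J (Fin m) F *ᵥ T v)) * (σ w - w) =
      σ (Cfsg.hermForm m K q u v) - Cfsg.hermForm m K q u v := by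
    intro u v
    rw [dot_J, map_sum, Finset.sum_mul, Cfsg.hermForm, map_sum, ← Finset.sum_sub_distrib]
    refine Finset.sum_congr rfl fun j _ => ?_
    rw [← hσ, map_mul σ, hss]
    conv_rhs => rw [hc (u j), hc (v j)]
    show algebraMap F K (c (u j) 1 * c (v j) 0 - c (u j) 0 * c (v j) 1) * (σ w - w) = _
    simp only [map_add, map_mul, map_sub, hfix']
    ring
  refine ⟨T, fun u v u' v' h => ?_⟩
  have hne : σ w - w ≠ 0 := fun h0 => hw ((hfix w).mp (sub_eq_zero.mp h0))
  refine (algebraMap F K).injective (mul_right_cancel₀ hne ?_)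
  rw [key, key, h]

/-- Symplectic coordinates over the small field of a symplectic space over the extension. -/
theorem exists_symp_restrict (hK : Fintype.card K = q ^ 2) (hF : Fintype.card F = q) (a : ℕ) :
    ∃ (i : F →+* K), letI := i.toAlgebra
      ∃ T : (Fin a ⊕ Fin a → K) ≃ₗ[F] (Fin (2 * a) ⊕ Fin (2 * a) → F),
        ∀ u v u' v' : Fin a ⊕ Fin a → K,
          u ⬝ᵥ (J (Fin a) K *ᵥ v) = u' ⬝ᵥ (J (Fin a) K *ᵥ v') →
          T u ⬝ᵥ (J (Fin (2 * a)) F *ᵥ T v) = T u' ⬝ᵥ (J (Fin (2 * a)) F *ᵥ T v') := by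
  obtain ⟨i, w, hw⟩ := exists_embedding hK hF
  refine ⟨i, ?_⟩
  letI := i.toAlgebra
  obtain ⟨c, hc⟩ := exists_coords hK hF (w := w) hw
  let lam : K →ₗ[F] F := (LinearMap.proj 1).comp c.toLinearMap
  let d : K →ₗ[F] (Fin 2 → F) :=
    LinearMap.pi fun j => if j = 0 then lam else lam.comp (LinearMap.mulLeft F w)
  have hc0 : ∀ (r s : F), c (algebraMap F K r + algebraMap F K s * w) = ![r, s] := by
    intro r s
    apply c.symm.injective
    rw [LinearEquiv.symm_apply_apply]
    conv_rhs => rw [hc (c.symm ![r, s]), LinearEquiv.apply_symm_apply]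
    simp
  have hdot : ∀ x y : K, lam (x * y) = c x 0 * d y 0 + c x 1 * d y 1 := by
    intro x y
    have e : x * y = c x 0 • y + c x 1 • (w * y) := by
      rw [Algebra.smul_def, Algebra.smul_def]
      conv_lhs => rw [hc x]
      ring
    rw [e, map_add, map_smul, map_smul]
    rfl
  have hdinj : Function.Injective d := by
    rw [injective_iff_map_eq_zero]
    intro y hy
    have h0 : lam y = 0 := congrFun hy 0
    have h1 : lam (w * y) = 0 := congrFun hy 1
    have hy' : y = algebraMap F K (c y 0) := by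
      conv_lhs => rw [hc y, show c y 1 = 0 from h0, map_zero, zero_mul, add_zero]
    rw [hy', show w * algebraMap F K (c y 0) = algebraMap F K 0 + algebraMap F K (c y 0) * w by
      rw [map_zero, zero_add, mul_comm]] at h1
    have h2 : c (algebraMap F K 0 + algebraMap F K (c y 0) * w) 1 = 0 := h1
    rw [hc0] at h2
    have : c y 0 = 0 := h2
    rw [hy', this, map_zero]
  let dE : K ≃ₗ[F] (Fin 2 → F) := LinearEquiv.ofBijective d (by
    rw [Fintype.bijective_iff_injective_and_card]
    exact ⟨hdinj, by rw [Fintype.card_fun, Fintype.card_fin, hF, hK]⟩)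
  let e : Fin (2 * a) ≃ Fin a ⊕ Fin a := (finCongr (two_mul a)).trans finSumFinEquiv.symm
  let T : (Fin a ⊕ Fin a → K) ≃ₗ[F] (Fin (2 * a) ⊕ Fin (2 * a) → F) :=
    { toFun := fun u => Sum.elim
        (fun j => Sum.elim (fun k => c (u (.inl k)) 0) (fun k => c (u (.inl k)) 1) (e j))
        (fun j => Sum.elim (fun k => dE (u (.inr k)) 0) (fun k => dE (u (.inr k)) 1) (e j))
      invFun := fun z => Sum.elim
        (fun k => c.symm ![z (.inl (e.symm (.inl k))), z (.inl (e.symm (.inr k)))])
        (fun k => dE.symm ![z (.inr (e.symm (.inl k))), z (.inr (e.symm (.inr k)))])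
      map_add' := fun u v => by
        funext k; rcases k with k | k <;> rcases h : e k with j | j <;> simp [h]
      map_smul' := fun r v => by
        funext k; rcases k with k | k <;> rcases h : e k with j | j <;> simp [h]
      left_inv := fun u => by
        funext k
        rcases k with k | k
        · apply c.injective
          simp only [Sum.elim_inl, LinearEquiv.apply_symm_apply]
          funext j; fin_cases j <;> simp
        · apply dE.injective
          simp only [Sum.elim_inr, LinearEquiv.apply_symm_apply]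
          funext j; fin_cases j <;> simp
      right_inv := fun z => by
        funext k
        rcases k with k | k <;> rcases h : e k with j | j <;>
          simp [h, ← e.eq_symm_apply.mpr h] }
  have key : ∀ u v : Fin a ⊕ Fin a → K,
      T u ⬝ᵥ (J (Fin (2 * a)) F *ᵥ T v) = lam (u ⬝ᵥ (J (Fin a) K *ᵥ v)) := by
    intro u v
    rw [dot_J, dot_J, map_sum, ← e.symm.sum_comp, Fintype.sum_sum_type, ← Finset.sum_add_distrib]
    refine Finset.sum_congr rfl fun k _ => ?_
    rw [map_sub, mul_comm (u (.inr k)), hdot, hdot]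
    show (Sum.elim _ _ (e (e.symm (.inl k))) * Sum.elim _ _ (e (e.symm (.inl k))) -
        Sum.elim _ _ (e (e.symm (.inl k))) * Sum.elim _ _ (e (e.symm (.inl k)))) +
      (Sum.elim _ _ (e (e.symm (.inr k))) * Sum.elim _ _ (e (e.symm (.inr k))) -
        Sum.elim _ _ (e (e.symm (.inr k))) * Sum.elim _ _ (e (e.symm (.inr k)))) = _
    simp only [Equiv.apply_symm_apply, Sum.elim_inl, Sum.elim_inr]
    show dE (u (.inr k)) 0 * c (v (.inl k)) 0 - c (u (.inl k)) 0 * dE (v (.inr k)) 0 +
      (dE (u (.inr k)) 1 * c (v (.inl k)) 1 - c (u (.inl k)) 1 * dE (v (.inr k)) 1) = _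
    simp only [dE, LinearEquiv.ofBijective_apply]
    ring
  exact ⟨T, fun u v u' v' h => by rw [key, key, h]⟩

/-- Quadratic coordinates of a hermitian space: hyperbolic pairs and, in odd dimension, one
elliptic plane. -/
theorem exists_pair_coords (hK : Fintype.card K = q ^ 2) (hF : Fintype.card F = q) (i : F →+* K) :
    letI := i.toAlgebra
    ∃ Φ : (K × K) ≃ₗ[F] (Fin 2 → F) × (Fin 2 → F), ∀ z : K × K,
      i ((Φ z).1 0 * (Φ z).2 0 + (Φ z).1 1 * (Φ z).2 1) = z.1 * z.1 ^ q + z.2 * z.2 ^ q := by
  letI := i.toAlgebra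
  obtain ⟨σ, hord, hσ, hfix⟩ := quadratic_data hK hF i
  have hq := two_le_card hF
  obtain ⟨w, hw⟩ : ∃ w : K, w ∉ i.range := by
    by_contra hcon
    push Not at hcon
    have := Fintype.card_le_of_surjective i hcon
    rw [hK, hF] at this
    nlinarith
  obtain ⟨c, hc⟩ := exists_coords hK hF (w := w) hw
  have hss : ∀ x, σ (σ x) = x := fun x => by
    have h := congrArg (fun e : RingAut K => e x) (pow_orderOf_eq_one σ)
    rwa [hord, pow_two] at h
  have hN : ∀ u : Kˣ, (PSLn.normUnits σ u : K) = u * σ u := fun u => by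
    rw [PSLn.coe_normUnits, hord, Finset.prod_range_succ, Finset.prod_range_one, pow_zero,
      pow_one, RingAut.one_apply]
  obtain ⟨δu, hδ⟩ : (-1 : Kˣ) ∈ (PSLn.normUnits σ).range := by
    rw [PSLn.range_normUnits, PSLn.mem_fixedUnits]; simp
  set δ : K := (δu : K)
  have hδ' : δ * σ δ = -1 := by rw [← hN, hδ]; simp
  have hδ0 : δ ≠ 0 := δu.ne_zero
  -- a norm one element different from one
  obtain ⟨ζ, hζ, hζ1⟩ : ∃ ζ : K, ζ * σ ζ = 1 ∧ ζ ≠ 1 := by
    have h1 := (PSLn.normUnits σ).ker.card_mul_index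
    rw [Subgroup.index_ker, PSLn.range_normUnits, PSLn.card_fixedUnits, Nat.card_units,
      Nat.card_eq_fintype_card (α := K), hK] at h1
    have hcF : Nat.card (PSLn.fixedField σ) = q := by
      refine Nat.pow_left_injective two_ne_zero ?_
      show _ ^ 2 = q ^ 2
      rw [← hK, PSLn.card_eq_fixedField_pow σ, hord]
    rw [hcF] at h1
    have hlt : 1 < Nat.card (PSLn.normUnits σ).ker := by
      obtain ⟨r, rfl⟩ : ∃ r, q = r + 2 := ⟨q - 2, by omega⟩
      by_contra hle
      push Not at hle
      have : (r + 2) ^ 2 - 1 ≤ r + 2 - 1 := by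
        rw [← h1]; exact (Nat.mul_le_mul_right _ hle).trans (one_mul _).le
      have : (r + 2) ^ 2 = r * r + 4 * r + 4 := by ring
      omega
    haveI := Finite.one_lt_card_iff_nontrivial.mp hlt
    obtain ⟨z, hz⟩ := exists_ne (1 : (PSLn.normUnits σ).ker)
    refine ⟨(z.1 : K), ?_, fun e => hz (Subtype.ext (Units.ext e))⟩
    rw [← hN, z.2, Units.val_one]
  have hζ' : (1 : K) - ζ ≠ 0 := sub_ne_zero.mpr (Ne.symm hζ1)
  have hσζ : (1 : K) - σ ζ ≠ 0 := by
    intro h0
    refine hζ1 ?_
    have := congrArg σ (sub_eq_zero.mp h0)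
    rw [map_one, hss] at this
    exact this.symm
  have hfixi : ∀ r : F, σ (i r) = i r := fun r => (hfix _).mpr ⟨r, rfl⟩
  -- trace to the small field
  have htr : ∀ z : K, z + σ z ∈ i.range := fun z =>
    (hfix _).mp (by rw [map_add, hss, add_comm])
  choose tr htr using htr
  have hsmul : ∀ (r : F) (z : K), r • z = i r * z := fun r z => Algebra.smul_def r z
  let trL : K →ₗ[F] F :=
    { toFun := tr
      map_add' := fun x y => i.injective (by rw [htr, map_add i, htr, htr, map_add σ]; ring)
      map_smul' := fun r x => i.injective (by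
        rw [RingHom.id_apply, smul_eq_mul, map_mul, htr, htr, hsmul, map_mul, hfixi]; ring) }
  let W : (K × K) →ₗ[F] K :=
    { toFun := fun z => (z.1 - δ * z.2) / (1 - ζ)
      map_add' := fun x y => by simp only [Prod.fst_add, Prod.snd_add]; field_simp; ring
      map_smul' := fun r x => by
        simp only [Prod.smul_fst, Prod.smul_snd, hsmul, RingHom.id_apply]; field_simp }
  let U : (K × K) →ₗ[F] K :=
    { toFun := fun z => (z.1 - W z) * (1 - σ ζ)
      map_add' := fun x y => by simp only [map_add, Prod.fst_add]; ring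
      map_smul' := fun r x => by
        simp only [map_smul, Prod.smul_fst, hsmul, RingHom.id_apply]; ring }
  let f : (K × K) →ₗ[F] (Fin 2 → F) × (Fin 2 → F) := LinearMap.prod
    (LinearMap.pi fun j => if j = 0 then trL.comp U else (trL.comp (LinearMap.mulLeft F (σ w))).comp U)
    (c.toLinearMap.comp W)
  have hinj : Function.Injective f := by
    rw [injective_iff_map_eq_zero]
    intro z hz
    have hW : W z = 0 := c.injective ((congrArg Prod.snd hz).trans (map_zero c).symm)
    have h0 : tr (U z) = 0 := congrFun (congrArg Prod.fst hz) 0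
    have h1 : tr (σ w * U z) = 0 := congrFun (congrArg Prod.fst hz) 1
    have e0 := htr (U z)
    rw [h0, map_zero] at e0
    have e1 := htr (σ w * U z)
    rw [h1, map_zero, map_mul, hss] at e1
    have hne : σ w - w ≠ 0 := fun h => hw ((hfix w).mp (sub_eq_zero.mp h))
    have hU : U z = 0 := by
      refine mul_left_cancel₀ hne ?_
      rw [mul_zero]
      linear_combination w * e0 - e1
    have hU' : (z.1 - W z) * (1 - σ ζ) = 0 := hU
    rw [hW, sub_zero, mul_eq_zero] at hU'
    have hz1 : z.1 = 0 := hU'.resolve_right hσζ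
    have hz2 : (z.1 - δ * z.2) / (1 - ζ) = 0 := hW
    rw [hz1, zero_sub, div_eq_zero_iff, neg_eq_zero, mul_eq_zero] at hz2
    exact Prod.ext hz1 ((hz2.resolve_right hζ').resolve_left hδ0)
  let Φ := LinearEquiv.ofBijective f (by
    rw [Fintype.bijective_iff_injective_and_card]
    refine ⟨hinj, ?_⟩
    rw [Fintype.card_prod, Fintype.card_prod, Fintype.card_fun, Fintype.card_fin, hK, hF])
  refine ⟨Φ, fun z => ?_⟩
  show i (tr (U z) * c (W z) 0 + tr (σ w * U z) * c (W z) 1) = _
  rw [map_add, map_mul, map_mul, htr, htr, map_mul σ, hss, ← hσ, ← hσ]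
  have hWc : W z = i (c (W z) 0) + i (c (W z) 1) * w := hc (W z)
  have hUdef : U z = (z.1 - W z) * (1 - σ ζ) := rfl
  have hWdef : W z * (1 - ζ) = z.1 - δ * z.2 := div_mul_cancel₀ _ hζ'
  have hσW : σ (W z) = i (c (W z) 0) + i (c (W z) 1) * σ w := by
    conv_lhs => rw [hWc]
    rw [map_add, map_mul, hfixi, hfixi]
  have hσU : σ (U z) = (σ z.1 - σ (W z)) * (1 - ζ) := by
    rw [hUdef, map_mul, map_sub, map_sub, map_one, hss]
  have hσWd : σ (W z) * (1 - σ ζ) = σ z.1 - σ δ * σ z.2 := by
    have := congrArg σ hWdef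
    simpa using this
  linear_combination (-(U z)) * hσW + (-σ (U z)) * hWc + σ (W z) * hUdef + W z * hσU +
    z.1 * hσWd + σ z.1 * hWdef + (W z * σ (W z)) * hζ - (σ (W z) * (1 - σ ζ)) * hWdef -
    (z.1 - δ * z.2) * hσWd - (z.2 * σ z.2) * hδ'

end CfsgLib.FiniteForms
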