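import Cfsg.Agent.Lib.FiniteForms.WittBasis
import Mathlib.Algebra.BigOperators.Ring.Finset
import Mathlib.Algebra.Module.ZMod

/-!
Quadratic forms over the field with two elements with a fixed polarisation: translations and the
Arf invariant through the signed count of values.
-/

set_option autoImplicit false

namespace CfsgLib.FiniteForms.Arf

open Matrix

variable {m : ℕ}

local notation "W" => (Fin m ⊕ Fin m → ZMod 2)
local notation "pq" => Cfsg.quadFormPlus m (ZMod 2)

/-- The polar form of the standard form. -/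
def B (u v : W) : ZMod 2 := u ⬝ᵥ (hypMat (ZMod 2) m *ᵥ v)

/-- Forms polarising to `B`. -/
def IsPQ (q : W → ZMod 2) : Prop :=
  ∀ u v, q (u + v) = q u + q v + (pq (u + v) - pq u - pq v)

theorem B_eq (u v : W) : pq (u + v) - pq u - pq v = B u v := polar_plus m u v

theorem B_comm (u v : W) : B u v = B v u :=
  toBilin'_symm_apply _ (hypMat_isSymm m) u v

theorem B_add_left (u v w : W) : B (u + v) w = B u w + B v w := add_dotProduct _ _ _

theorem B_add_right (u v w : W) : B u (v + w) = B u v + B u w := by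
  rw [B, mulVec_add, dotProduct_add]; rfl

theorem B_smul_left (c : ZMod 2) (u v : W) : B (c • u) v = c * B u v := by
  rw [B, smul_dotProduct]; rfl

theorem hyp_hyp (v : W) : hypMat (ZMod 2) m *ᵥ (hypMat (ZMod 2) m *ᵥ v) = v := by
  rw [mulVec_mulVec, show hypMat (ZMod 2) m * hypMat (ZMod 2) m = 1 by
    simp [hypMat, Matrix.fromBlocks_multiply], one_mulVec]

theorem B_self (u : W) : B u u = 0 := by
  rw [← B_eq]
  have : pq (u + u) = 0 := by
    rw [show u + u = 0 from funext fun i => CharTwo.add_self_eq_zero _]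
    simp [Cfsg.quadFormPlus]
  rw [this, zero_sub, CharTwo.sub_eq_add, CharTwo.neg_eq, CharTwo.add_self_eq_zero]

theorem exists_B_eq (d : W →ₗ[ZMod 2] ZMod 2) : ∃ w, ∀ v, d v = B v w := by
  refine ⟨hypMat (ZMod 2) m *ᵥ fun i => d (Pi.single i 1), fun v => ?_⟩
  rw [B, hyp_hyp, dotProduct]
  conv_lhs => rw [pi_eq_sum_univ' v]
  simp [map_sum, map_smul]

theorem B_right_inj {w w' : W} (h : ∀ v, B v w = B v w') : w = w' := by
  have e : hypMat (ZMod 2) m *ᵥ w = hypMat (ZMod 2) m *ᵥ w' := funext fun i => by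
    have := h (Pi.single i 1)
    simpa [B] using this
  rw [← hyp_hyp w, e, hyp_hyp]

theorem isPQ_pq : IsPQ (m := m) pq := fun u v => by ring

theorem isPQ_translate {q : W → ZMod 2} (hq : IsPQ q) (w : W) : IsPQ fun v => q v + B v w :=
  fun u v => by
    simp only [hq u v, B_add_left]
    ring

theorem exists_translate {q : W → ZMod 2} (hq : IsPQ q) : ∃ w, ∀ v, q v = pq v + B v w := by
  let d : W →+ ZMod 2 := AddMonoidHom.mk' (fun v => q v - pq v) fun u v => by
    simp only [hq u v]; ring
  obtain ⟨w, hw⟩ := exists_B_eq (d.toZModLinearMap 2)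
  exact ⟨w, fun v => by rw [← hw]; show q v = pq v + (q v - pq v); ring⟩

/-- Adding `B(·, w)` with `w` singular gives an isometric form. -/
theorem exists_isometry_translate {q : W → ZMod 2} (hq : IsPQ q) {w : W} (hw : q w = 0) :
    ∃ g : W ≃ₗ[ZMod 2] W, ∀ v, q v + B v w = q (g v) := by
  let f : W →ₗ[ZMod 2] W :=
    { toFun := fun v => v + B v w • w
      map_add' := fun u v => by simp only [B_add_left, add_smul]; abel
      map_smul' := fun c v => by simp only [B_smul_left, RingHom.id_apply, smul_add, smul_smul] }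
  have hf : ∀ v, f (f v) = v := fun v => by
    show v + B v w • w + B (v + B v w • w) w • w = v
    rw [B_add_left, B_smul_left, B_self, mul_zero, add_zero, add_assoc, ← add_smul,
      CharTwo.add_self_eq_zero, zero_smul, add_zero]
  refine ⟨LinearEquiv.ofInvolutive f hf, fun v => ?_⟩
  show q v + B v w = q (v + B v w • w)
  have hq0 : q 0 = 0 := by
    have := hq 0 0
    simpa [Cfsg.quadFormPlus] using this
  rcases (by decide : ∀ c : ZMod 2, c = 0 ∨ c = 1) (B v w) with h | h
  · rw [h, zero_smul, add_zero, add_zero]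
  · rw [h, one_smul, hq v w, hw, add_zero, B_eq, h]

/-- The sign of a value. -/
def eps (x : ZMod 2) : ℤ := if x = 0 then 1 else -1

theorem eps_add (x y : ZMod 2) : eps (x + y) = eps x * eps y := by revert x y; decide

/-- The signed count of values. -/
def gauss (q : W → ZMod 2) : ℤ := ∑ v, eps (q v)

theorem gauss_translate {q : W → ZMod 2} (hq : IsPQ q) (w : W) :
    gauss (fun v => q v + B v w) = eps (q w) * gauss q := by
  rw [gauss, gauss, Finset.mul_sum, ← Equiv.sum_comp (Equiv.addRight w) (fun v => eps (q w) * eps (q v))]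
  refine Finset.sum_congr rfl fun v _ => ?_
  rw [Equiv.coe_addRight, hq v w, B_eq, ← eps_add]
  congr 1
  rw [show q w + (q v + q w + B v w) = q v + B v w + (q w + q w) by ring,
    CharTwo.add_self_eq_zero, add_zero]

theorem gauss_pq : gauss (m := m) pq = 2 ^ m := by
  rw [gauss]
  let E : (Fin m → ZMod 2 × ZMod 2) ≃ W :=
    { toFun := fun p => Sum.elim (fun i => (p i).1) (fun i => (p i).2)
      invFun := fun v i => (v (.inl i), v (.inr i))
      left_inv := fun p => rfl
      right_inv := fun v => by funext i; rcases i with i | i <;> rfl }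
  rw [← E.sum_comp]
  have e : ∀ p : Fin m → ZMod 2 × ZMod 2, eps (pq (E p)) = ∏ i, eps ((p i).1 * (p i).2) := by
    intro p
    show eps (∑ i, (p i).1 * (p i).2) = _
    induction (Finset.univ : Finset (Fin m)) using Finset.induction_on with
    | empty => rfl
    | insert i s hi ih => rw [Finset.sum_insert hi, Finset.prod_insert hi, eps_add, ih]
  simp only [e]
  rw [← Fintype.prod_sum (fun _ (x : ZMod 2 × ZMod 2) => eps (x.1 * x.2))]
  rw [Finset.prod_const, Finset.card_univ, Fintype.card_fin]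
  rfl

theorem gauss_ne_zero {q : W → ZMod 2} (hq : IsPQ q) : gauss q ≠ 0 := by
  obtain ⟨w, hw⟩ := exists_translate hq
  rw [show q = fun v => pq v + B v w from funext hw, gauss_translate isPQ_pq, gauss_pq]
  refine mul_ne_zero ?_ (pow_ne_zero _ two_ne_zero)
  unfold eps
  split_ifs <;> decide

theorem gauss_isometry {ι : Type*} [Fintype ι] [DecidableEq ι] (q : W → ZMod 2)
    (Q : (ι → ZMod 2) → ZMod 2) (g : W ≃ₗ[ZMod 2] (ι → ZMod 2)) (h : ∀ v, q v = Q (g v)) :
    gauss q = ∑ v, eps (Q v) := by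
  rw [gauss, ← g.toEquiv.sum_comp (fun v => eps (Q v))]
  exact Finset.sum_congr rfl fun v _ => by rw [h]; rfl

theorem translate_iso_iff {q : W → ZMod 2} (hq : IsPQ q) (w : W) :
    (∃ g : W ≃ₗ[ZMod 2] W, ∀ v, q v + B v w = q (g v)) ↔ q w = 0 := by
  refine ⟨fun ⟨g, hg⟩ => ?_, exists_isometry_translate hq⟩
  have h1 : eps (q w) * gauss q = gauss q := by
    rw [← gauss_translate hq, gauss_isometry _ q g hg]
    rfl
  have h2 : eps (q w) = 1 := mul_left_eq_self₀.mp h1 |>.resolve_right (gauss_ne_zero hq)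
  revert h2
  generalize q w = x
  revert x
  decide

theorem plus_iff (w : W) :
    (∃ g : W ≃ₗ[ZMod 2] W, ∀ v, pq v + B v w = pq (g v)) ↔ pq w = 0 :=
  translate_iso_iff isPQ_pq w

/-- Each form is of plus or of minus type. -/
theorem type_dichotomy (hm : 1 ≤ m) {q : W → ZMod 2} (hq : IsPQ q) :
    (∃ g : W ≃ₗ[ZMod 2] W, ∀ v, q v = pq (g v)) ∨
      ∃ g : W ≃ₗ[ZMod 2] ((Fin (m - 1) ⊕ Fin (m - 1)) ⊕ Fin 2 → ZMod 2),
        ∀ v, q v = Cfsg.quadFormMinus (m - 1) (ZMod 2) 1 1 (g v) := by
  have hq0 : q 0 = 0 := by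
    have := hq 0 0
    simpa [Cfsg.quadFormPlus] using this
  have hpol : ∀ u v, QuadraticMap.polar q u v = B u v := fun u v => by
    rw [QuadraticMap.polar, hq u v, ← B_eq]; ring
  let Q : QuadraticForm (ZMod 2) W := QuadraticMap.ofPolar q
    (fun a x => by
      rcases (by decide : ∀ c : ZMod 2, c = 0 ∨ c = 1) a with rfl | rfl
      · rw [zero_smul, hq0, mul_zero, zero_smul]
      · rw [one_smul, one_mul, one_smul])
    (fun x x' y => by rw [hpol, hpol, hpol, B_add_left])
    (fun a x y => by rw [hpol, hpol, B_smul_left, smul_eq_mul])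
  have hnd : PolarNondeg Q := fun x hx => B_right_inj (w' := 0) fun v => by
    rw [B_comm, show B x v = 0 from (hpol x v).symm.trans (hx v)]
    simp [B]
  have hd : Module.finrank (ZMod 2) W = 2 * m := by
    rw [Module.finrank_pi, Fintype.card_sum, Fintype.card_fin, two_mul]
  rcases even_dichotomy hnd hm hd with ⟨e, f, h⟩ | ⟨e, f, x, y, h, hx, hy, hQx, hxy, ht, hli⟩
  · exact Or.inl (isometry_of_hypFam h hd)
  · refine Or.inr ?_
    have hy1 : Q y = 1 := by
      have := ht 0
      revert this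
      generalize Q y = z
      revert z
      decide
    obtain ⟨g, hg⟩ := isometry_of_elliptic h hx hy hxy hQx hli (by rw [hd]; omega)
    exact ⟨g, fun v => by
      have h' := hg v
      rw [hy1] at h'
      exact h'⟩

theorem minus_iff (hm : 1 ≤ m) (w : W) :
    (∃ g : W ≃ₗ[ZMod 2] ((Fin (m - 1) ⊕ Fin (m - 1)) ⊕ Fin 2 → ZMod 2),
      ∀ v, pq v + B v w = Cfsg.quadFormMinus (m - 1) (ZMod 2) 1 1 (g v)) ↔ ¬ pq w = 0 := by
  constructor
  · rintro ⟨g, hg⟩ h0
    obtain ⟨g', hg'⟩ := (plus_iff w).mpr h0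
    refine plus_not_isometric_minus hm (ζ := (1 : ZMod 2)) (by decide) (g'.symm.trans g) fun v => ?_
    rw [LinearEquiv.trans_apply, ← hg, hg', LinearEquiv.apply_symm_apply]
  · intro h0
    rcases type_dichotomy hm (isPQ_translate isPQ_pq w) with hg | hg
    · exact absurd ((plus_iff w).mp hg) h0
    · exact hg

theorem translate_bijective :
    Function.Bijective fun w : W => (⟨fun v => pq v + B v w, isPQ_translate isPQ_pq w⟩ :
      {q : W → ZMod 2 // IsPQ q}) := by
  constructor
  · intro w w' h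
    refine B_right_inj fun v => ?_
    have := congrFun (congrArg Subtype.val h) v
    exact add_left_cancel this
  · rintro ⟨q, hq⟩
    obtain ⟨w, hw⟩ := exists_translate hq
    exact ⟨w, Subtype.ext (funext fun v => (hw v).symm)⟩

theorem card_zeros (hm : 1 ≤ m) :
    Nat.card {w : W // pq w = 0} = 2 ^ (2 * m - 1) + 2 ^ (m - 1) ∧
      Nat.card {w : W // ¬ pq w = 0} = 2 ^ (2 * m - 1) - 2 ^ (m - 1) := by
  classical
  rw [Nat.card_eq_fintype_card, Nat.card_eq_fintype_card, Fintype.card_subtype,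
    Fintype.card_subtype]
  set A := Finset.univ.filter fun w : W => pq w = 0
  set C := Finset.univ.filter fun w : W => ¬ pq w = 0
  have h1 : A.card + C.card = 2 ^ (2 * m) := by
    rw [Finset.card_filter_add_card_filter_not, Finset.card_univ, Fintype.card_fun, ZMod.card,
      Fintype.card_sum, Fintype.card_fin, two_mul]
  have h2 : (A.card : ℤ) - C.card = 2 ^ m := by
    rw [← gauss_pq, gauss, ← Finset.sum_filter_add_sum_filter_not Finset.univ
      (fun w : W => pq w = 0)]
    rw [Finset.sum_congr (s₁ := A) rfl (g := fun _ => (1 : ℤ)) fun w hw => by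
        simp [eps, (Finset.mem_filter.mp hw).2],
      Finset.sum_congr (s₁ := C) rfl (g := fun _ => (-1 : ℤ)) fun w hw => by
        simp [eps, (Finset.mem_filter.mp hw).2]]
    simp [A, C, sub_eq_add_neg]
  obtain ⟨n, rfl⟩ : ∃ n, m = n + 1 := ⟨m - 1, by omega⟩
  rw [show 2 * (n + 1) - 1 = 2 * n + 1 by omega, Nat.add_sub_cancel]
  have h3 : ((2 : ℕ) ^ (2 * (n + 1))) = 2 * 2 ^ (2 * n + 1) := by
    rw [← pow_succ']
    congr 1
  have h4 : ((2 : ℤ) ^ (n + 1)) = 2 * ((2 ^ n : ℕ) : ℤ) := by push_cast; rw [pow_succ']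
  rw [h3] at h1
  rw [h4] at h2
  omega

end CfsgLib.FiniteForms.Arf
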